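/-
helper743: a Landazuri-Seitz type bound for indices of subgroups of simple groups.

`V` abelian, `Z ≤ V` central in `U ≥ V`, `[U, V] ≤ Z` and `[U, v] = Z` for all `v ∈ V \ Z`: then every proper subgroup has
index at least `|V : Z|`.
-/
import Mathlib
import Cfsg.Agent.H934.Burn
import Cfsg.Agent.FastGrp
import Cfsg.Agent.Prune
set_option linter.all false
prune_inst 0x7f00000000000000000000000000000000000000000000000000000000000000000000000000000000000000000000000000000000000000000000000000000000000000000000000000000000000000003fffffffffffffffffffffffffffbeffbdffffffff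
open scoped Cfsg.Agent.FastGrp

set_option autoImplicit false

namespace Cfsg.Agent.H743.LSIndex

open MulAction

/-- A finite commutative group with a proper subgroup `N` has a character trivial on `N`, but not trivial. -/
theorem exists_char {Z : Type*} [Group Z] [Finite Z] (hc : ∀ a b : Z, a * b = b * a) (N : Subgroup Z)
    {t : Z} (ht : t ∉ N) : ∃ lam : Z →* ℂˣ, lam t ≠ 1 ∧ ∀ x ∈ N, lam x = 1 := by
  let _ : CommGroup Z := { (inferInstance : Group Z) with mul_comm := hc }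
  have hexp : Monoid.exponent (Z ⧸ N) ≠ 0 := Monoid.exponent_ne_zero_of_finite
  have : NeZero (Monoid.exponent (Z ⧸ N)) := ⟨hexp⟩
  have ht' : ((t : Z) : Z ⧸ N) ≠ 1 := fun h => ht ((QuotientGroup.eq_one_iff t).1 h)
  obtain ⟨φ, hφ⟩ := CommGroup.exists_apply_ne_one_of_hasEnoughRootsOfUnity (Z ⧸ N) ℂ ht'
  refine ⟨φ.comp (QuotientGroup.mk' N), hφ, fun x hx => ?_⟩
  change φ ((x : Z) : Z ⧸ N) = 1
  rw [(QuotientGroup.eq_one_iff x).2 hx, map_one]

/-- The number of characters of `P` trivial on `W` is at most the index of `W`. -/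
theorem card_char_le {P : Type*} [Group P] [Finite P] (W : Subgroup P) (F : Set (P →* ℂˣ))
    (hF : ∀ f ∈ F, ∀ w ∈ W, f w = 1) : Nat.card F ≤ W.index := by
  classical
  let g : F → (P ⧸ W) → ℂ := fun f x => ((f : P →* ℂˣ) (Quotient.out x) : ℂ)
  let L : ((P ⧸ W) → ℂ) →ₗ[ℂ] (P → ℂ) := LinearMap.funLeft ℂ ℂ (fun u : P => (u : P ⧸ W))
  have h1 : ∀ f : F, L (g f) = fun u => (((f : P →* ℂˣ) u : ℂˣ) : ℂ) := by
    intro f
    ext u
    change (((f : P →* ℂˣ) (Quotient.out (u : P ⧸ W)) : ℂˣ) : ℂ) = _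
    congr 1
    obtain ⟨w, hw⟩ := QuotientGroup.mk_out_eq_mul W u
    rw [hw, map_mul, hF f f.2 w w.2, mul_one]
  have h2 : LinearIndependent ℂ (fun f : F => (L ∘ g) f) := by
    have h3 := linearIndependent_monoidHom P ℂ
    have h4 := h3.comp (fun f : F => (Units.coeHom ℂ).comp (f : P →* ℂˣ)) (by
      intro f f' hff
      apply Subtype.ext
      ext u
      have := DFunLike.congr_fun hff u
      simpa using this)
    have h5 : (fun f : F => (L ∘ g) f) =
        ((fun f : P →* ℂ => (f : P → ℂ)) ∘ fun f : F => (Units.coeHom ℂ).comp (f : P →* ℂˣ)) := by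
      funext f
      exact h1 f
    rw [h5]
    exact h4
  have h3 : LinearIndependent ℂ g := LinearIndependent.of_comp L h2
  have hfin : Finite F := h3.finite
  have := Fintype.ofFinite F
  have := Fintype.ofFinite (P ⧸ W)
  have h4 := h3.fintype_card_le_finrank
  rw [Module.finrank_fintype_fun_eq_card] at h4
  rw [Nat.card_eq_fintype_card]
  refine h4.trans (le_of_eq ?_)
  rw [← Nat.card_eq_fintype_card]
  rfl

variable {P : Type*} [Group P] [Finite P] {Ω : Type*} [MulAction P Ω] [Finite Ω]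

/-- **The bound for an action.** -/
theorem card_le_mul (V Z : Subgroup P) (hZV : Z ≤ V) (hV : ∀ a ∈ V, ∀ b ∈ V, a * b = b * a)
    (hZ : ∀ z ∈ Z, ∀ g : P, g * z = z * g) (hc : ∀ g : P, ∀ v ∈ V, g * v * g⁻¹ * v⁻¹ ∈ Z)
    (hsp : ∀ v ∈ V, v ∉ Z → ∀ z ∈ Z, ∃ g : P, g * v * g⁻¹ * v⁻¹ = z) (ω : Ω)
    (hω : ∃ z ∈ Z, z • ω ≠ ω) : Nat.card V ≤ Nat.card Z * Nat.card Ω := by
  classical
  obtain ⟨z₀, hz₀, hz₀ω⟩ := hω
  set S : Subgroup P := stabilizer P ω with hS
  have hVn : V.Normal := ⟨fun v hv g => by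
    have := V.mul_mem (hZV (hc g v hv)) hv
    simpa [mul_assoc] using this⟩
  obtain ⟨lam, hlam0, hlam1⟩ := exists_char (Z := Z)
    (fun a b => Subtype.ext (hZ b b.2 a)) (S.subgroupOf Z) (t := ⟨z₀, hz₀⟩) (fun h => hz₀ω h)
  let A : Subgroup P := V ⊓ S
  have hAV : ∀ a : A, (a : P) ∈ V := fun a => a.2.1
  have k1 : ∀ a : A, (⟨(1 : P) * a * (1 : P)⁻¹ * (a : P)⁻¹, hc 1 a (hAV a)⟩ : Z) = 1 :=
    fun a => Subtype.ext (by simp)
  have k2 : ∀ (a : A) (g g' : P), (⟨g * g' * a * (g * g')⁻¹ * (a : P)⁻¹, hc (g * g') a (hAV a)⟩ : Z) =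
      ⟨g * a * g⁻¹ * (a : P)⁻¹, hc g a (hAV a)⟩ * ⟨g' * a * g'⁻¹ * (a : P)⁻¹, hc g' a (hAV a)⟩ := by
    intro a g g'
    apply Subtype.ext
    change g * g' * a * (g * g')⁻¹ * (a : P)⁻¹ =
      (g * a * g⁻¹ * (a : P)⁻¹) * (g' * a * g'⁻¹ * (a : P)⁻¹)
    have h1 := hZ _ (hc g' a (hAV a)) g
    have h2 := hZ _ (hc g' a (hAV a)) (g * a * g⁻¹ * (a : P)⁻¹)
    rw [h2]
    calc g * g' * a * (g * g')⁻¹ * (a : P)⁻¹
        = (g * (g' * a * g'⁻¹ * (a : P)⁻¹)) * a * g⁻¹ * (a : P)⁻¹ := by group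
      _ = _ := by rw [h1]; group
  have k3 : ∀ g : P, (⟨g * ((1 : A) : P) * g⁻¹ * ((1 : A) : P)⁻¹, hc g _ (hAV 1)⟩ : Z) = 1 :=
    fun a => Subtype.ext (by simp)
  have k4 : ∀ (a b : A) (g : P), (⟨g * ((a * b : A) : P) * g⁻¹ * ((a * b : A) : P)⁻¹, hc g _ (hAV (a * b))⟩ : Z) =
      ⟨g * a * g⁻¹ * (a : P)⁻¹, hc g a (hAV a)⟩ * ⟨g * b * g⁻¹ * (b : P)⁻¹, hc g b (hAV b)⟩ := by
    intro a b g
    apply Subtype.ext
    change g * ((a : P) * b) * g⁻¹ * ((a : P) * b)⁻¹ =
          (g * a * g⁻¹ * (a : P)⁻¹) * (g * b * g⁻¹ * (b : P)⁻¹)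
    have h1 := hZ _ (hc g b (hAV b)) (a : P)
    calc g * ((a : P) * b) * g⁻¹ * ((a : P) * b)⁻¹
        = (g * a * g⁻¹) * (g * b * g⁻¹ * (b : P)⁻¹) * (a : P)⁻¹ := by group
      _ = (g * a * g⁻¹ * (a : P)⁻¹) * (a * (g * b * g⁻¹ * (b : P)⁻¹)) * (a : P)⁻¹ := by group
      _ = _ := by rw [h1]; group
  let f : A →* (P →* ℂˣ) :=
    { toFun := fun a =>
        { toFun := fun g => lam ⟨g * a * g⁻¹ * (a : P)⁻¹, hc g a (hAV a)⟩
          map_one' := by rw [k1, map_one]
          map_mul' := fun g g' => by rw [k2, map_mul] }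
      map_one' := MonoidHom.ext fun g => by
        change lam _ = 1
        rw [k3, map_one]
      map_mul' := fun a b => MonoidHom.ext fun g => by
        change lam _ = lam _ * lam _
        rw [k4, map_mul] }
  have hfval : ∀ (a : A) (g : P), f a g = lam ⟨g * a * g⁻¹ * (a : P)⁻¹, hc g a (hAV a)⟩ := fun a g => rfl
  -- the kernel of `f` lies in `Z`
  have hker : Nat.card f.ker ≤ Nat.card (Z ⊓ S : Subgroup P) := by
    have hin : ∀ a : f.ker, ((a : A) : P) ∈ Z ⊓ S := by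
      rintro ⟨a, ha⟩
      refine ⟨?_, a.2.2⟩
      by_contra haZ
      obtain ⟨g, hg⟩ := hsp a (hAV a) haZ z₀ hz₀
      apply hlam0
      have h1 : f a g = 1 := by rw [MonoidHom.mem_ker.1 ha]; rfl
      rw [hfval] at h1
      rw [← h1]; congr 1; exact Subtype.ext hg.symm
    exact Nat.card_le_card_of_injective (fun a : f.ker => (⟨_, hin a⟩ : (Z ⊓ S : Subgroup P))) (by
      intro a b hab
      have := congrArg Subtype.val hab
      exact Subtype.ext (Subtype.ext this))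
  -- the characters are trivial on `V ⊔ S`
  have htriv : ∀ φ ∈ Set.range f, ∀ w ∈ V ⊔ S, φ w = 1 := by
    rintro _ ⟨a, rfl⟩ w hw
    have hle : V ⊔ S ≤ (f a).ker := by
      apply sup_le
      · intro v hv
        rw [MonoidHom.mem_ker, hfval, ← map_one lam]
        congr 1; apply Subtype.ext
        change v * a * v⁻¹ * (a : P)⁻¹ = 1
        rw [hV v hv a (hAV a)]; group
      · intro s hs
        rw [MonoidHom.mem_ker, hfval]
        apply hlam1
        rw [Subgroup.mem_subgroupOf]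
        exact S.mul_mem (S.mul_mem (S.mul_mem hs a.2.2) (S.inv_mem hs)) (S.inv_mem a.2.2)
    exact hle hw
  have hrange := card_char_le (V ⊔ S) (Set.range f) htriv
  have hA : Nat.card A = Nat.card f.ker * Nat.card (Set.range f) := by
    have h1 : Nat.card (A ⧸ f.ker) = Nat.card (Set.range f) :=
      Nat.card_congr (QuotientGroup.quotientKerEquivRange f).toEquiv
    rw [← h1, mul_comm]
    exact Subgroup.card_eq_card_quotient_mul_card_subgroup f.ker
  -- indices
  have h1 : S.index ≤ Nat.card Ω := by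
    rw [hS, index_stabilizer]
    exact Set.ncard_le_card _
  have h2 : Nat.card (V ⊔ S : Subgroup P) * Nat.card A = Nat.card V * Nat.card S := by
    have e1 : Nat.card V * V.relIndex (V ⊔ S) = Nat.card (V ⊔ S : Subgroup P) := by
      have := Subgroup.card_mul_index (V.subgroupOf (V ⊔ S))
      rwa [Nat.card_congr (Subgroup.subgroupOfEquivOfLe (le_sup_left : V ≤ V ⊔ S)).toEquiv] at this
    have e2 : V.relIndex (V ⊔ S) = V.relIndex S := by
      rw [sup_comm]; exact Subgroup.relIndex_sup_right S V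
    have e3 : Nat.card A * V.relIndex S = Nat.card S := by
      have := Subgroup.card_mul_index (V.subgroupOf S)
      have e4 : Nat.card (V.subgroupOf S) = Nat.card A := by
        refine Nat.card_congr ?_
        exact
          { toFun := fun x => ⟨x.1.1, x.2, x.1.2⟩
            invFun := fun x => ⟨⟨x.1, x.2.2⟩, x.2.1⟩
            left_inv := fun x => rfl
            right_inv := fun x => rfl }
      rwa [e4] at this
    rw [← e1, ← e3, e2]; ring
  have h3 := S.card_mul_index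
  have h4 := (V ⊔ S).card_mul_index
  have hS0 : 0 < Nat.card S := Nat.card_pos
  have hi0 : 0 < (V ⊔ S).index := Nat.pos_of_ne_zero Subgroup.index_ne_zero_of_finite
  have h5 : S.index * Nat.card A = Nat.card V * (V ⊔ S).index := by
    apply Nat.eq_of_mul_eq_mul_left hS0
    calc Nat.card S * (S.index * Nat.card A) = (Nat.card S * S.index) * Nat.card A := by ring
      _ = (Nat.card (V ⊔ S : Subgroup P) * (V ⊔ S).index) * Nat.card A := by rw [h3, h4]
      _ = (Nat.card (V ⊔ S : Subgroup P) * Nat.card A) * (V ⊔ S).index := by ring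
      _ = _ := by rw [h2]; ring
  have h6 : Nat.card A ≤ Nat.card Z * (V ⊔ S).index := by
    rw [hA]
    refine Nat.mul_le_mul (hker.trans ?_) hrange
    exact Nat.card_le_card_of_injective _ (Subgroup.inclusion_injective (inf_le_left : Z ⊓ S ≤ Z))
  have h7 : Nat.card V * (V ⊔ S).index ≤ (Nat.card Z * Nat.card Ω) * (V ⊔ S).index := by
    rw [← h5]
    calc S.index * Nat.card A ≤ Nat.card Ω * (Nat.card Z * (V ⊔ S).index) := Nat.mul_le_mul h1 h6
      _ = _ := by ring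
  exact Nat.le_of_mul_le_mul_right h7 hi0

/-- **The bound for indices of subgroups of a simple group.** -/
theorem card_le_index {X : Type*} [Group X] [Finite X] [IsSimpleGroup X] (U V Z : Subgroup X) (hZV : Z ≤ V)
    (hVU : V ≤ U) (hV : ∀ a ∈ V, ∀ b ∈ V, a * b = b * a) (hZ1 : Z ≠ ⊥)
    (hZ : ∀ z ∈ Z, ∀ g ∈ U, g * z = z * g) (hc : ∀ g ∈ U, ∀ v ∈ V, g * v * g⁻¹ * v⁻¹ ∈ Z)
    (hsp : ∀ v ∈ V, v ∉ Z → ∀ z ∈ Z, ∃ g ∈ U, g * v * g⁻¹ * v⁻¹ = z) (H : Subgroup X) (hH : H ≠ ⊤) :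
    Nat.card V ≤ Nat.card Z * H.index := by
  obtain ⟨⟨z, hz⟩, hz1⟩ := Subgroup.ne_bot_iff_exists_ne_one.1 hZ1
  have hzU : z ∈ U := hVU (hZV hz)
  have hzne : z ≠ 1 := fun h => hz1 (Subtype.ext h)
  obtain ⟨ω, hω⟩ := H934.Burn.exists_moved U.subtype hH (s := ⟨z, hzU⟩) hzne
  have h := card_le_mul (P := U) (Ω := H934.Burn.Cos U.subtype H) (V.subgroupOf U) (Z.subgroupOf U)
    (fun x hx => hZV hx)
    (fun a ha b hb => Subtype.ext (hV a ha b hb))
    (fun z hz g => Subtype.ext (hZ z hz g g.2))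
    (fun g v hv => hc g g.2 v hv)
    (fun v hv hvZ z hz => by
      obtain ⟨g, hg, h⟩ := hsp v hv hvZ z hz
      exact ⟨⟨g, hg⟩, Subtype.ext h⟩) ω ⟨⟨z, hzU⟩, hz, hω⟩
  rw [Nat.card_congr (Subgroup.subgroupOfEquivOfLe hVU).toEquiv,
    Nat.card_congr (Subgroup.subgroupOfEquivOfLe (hZV.trans hVU)).toEquiv, H934.Burn.card_cos] at h
  exact h

end Cfsg.Agent.H743.LSIndex
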