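import Cfsg.Agent.H387.VO.Main
import Cfsg.Agent.H653.Spor.J4Dz
import Cfsg.Agent.H723.Spor.JFour
import Cfsg.Agent.Prune
set_option linter.all false
prune_inst 0x7f00000000000000000000000000000000000000000000000000000000000000000000000000000000000000000000000000000000000000000000000000000000000000000000000000000000000000003fffffffffffffffffffffffffffbeffbdffffffff
open scoped Cfsg.Agent.FastGrp

/-!
# S4987: `J₄`, `p = 11` (helper743, task 3288): characters of 11-defect zero
-/

set_option autoImplicit false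

namespace Cfsg.Agent.H743.VanJ4

open Cfsg Cfsg.Agent.H713 Cfsg.Agent.H665.NoPQ Cfsg.Agent.H419.Row Cfsg.Agent.H387.VO

theorem hasDZ_eleven : HasDZ 11 Spor.J4 := by
  have hfin : Finite Spor.J4 := H337.finite_of_isoJ4 ⟨MulEquiv.refl _⟩
  obtain ⟨d, ⟨χ, rfl⟩, hd⟩ := H653.Spor.J4Dz.exists_deg (S := Spor.J4) ⟨MulEquiv.refl _⟩ (m := 1331) (by simp)
  refine dz_of_dvd (n := 3) χ hd ?_ (by norm_num)
  rw [H653.Spor.J4Dz.card_K]
  exact H419.Row.factorization_eq (n := 3) (m := 65195770883604480) (by norm_num) (by norm_num) (by norm_num)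

/-- **S4987, `J₄`, `p = 11`.** -/
theorem two_j4_11 {K : Type*} [Group K] (h : Spor.IsoJ4 K) : TwoVan 11 K := by
  obtain ⟨e⟩ := h
  have hfin : Finite Spor.J4 := H337.finite_of_isoJ4 ⟨MulEquiv.refl _⟩
  have : Fact (Nat.Prime 11) := ⟨by norm_num⟩
  obtain ⟨z, y, hz, hy, hzy, -⟩ := H723.Spor.JFour.exists_22
  have h22 : orderOf (z * y) = 22 := by
    rw [(show Commute z y from hzy).orderOf_mul_eq_mul_orderOf_of_coprime (by rw [hz, hy]; norm_num), hz, hy]
  refine TwoVan.mulEquiv (S := Spor.J4) ?_ e.symm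
  exact TwoVan.of_order (x := y) (y := z * y) (by rw [hy]) (by rw [h22]; norm_num)
    (H713.HasDZ.vz hasDZ_eleven (by rw [hy])) (H713.HasDZ.vz hasDZ_eleven (by rw [h22]; norm_num)) (by rw [hy, h22]; norm_num)

end Cfsg.Agent.H743.VanJ4
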