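import Mathlib
import Cfsg.Agent.LieClassical.SLGen
set_option linter.all false

/-!
# Generation of special linear and symplectic groups by transvections, coordinate free

* `mem_of_det_eq_one`: a subgroup of `GL(W)`, `dim W ≥ 2`, containing all transvections contains all
  elements of determinant one.
* `mem_of_isometry`: a subgroup of `GL(W)` containing all symplectic transvections with respect to a
  nondegenerate alternating form contains all isometries of this form.
-/

set_option autoImplicit false
set_option linter.unusedVariables false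
set_option linter.unusedSimpArgs false
set_option linter.unusedSectionVars false

namespace Cfsg.Agent.H743.McL

open Module

variable {K W : Type*} [Field K] [AddCommGroup W] [Module K W]

theorem mem_of_matrix {n : ℕ} [Nontrivial (Fin n)] (b : Basis (Fin n) K W)
    (S : Subgroup (W ≃ₗ[K] W))
    (hS : ∀ (a : W) (φ : Dual K W), φ a = 0 → ∃ t ∈ S, ∀ x, t x = x + φ x • a)
    (A : Matrix.SpecialLinearGroup (Fin n) K) :
    ∀ f : W ≃ₗ[K] W, LinearMap.toMatrix b b (f : W →ₗ[K] W) = (A : Matrix (Fin n) (Fin n) K) →
      f ∈ S := by
  induction A using Cfsg.Agent.LieClassical.SLGen.transvection_induction with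
  | htransvec i j h c =>
    intro f hf
    obtain ⟨t, ht, h1⟩ := hS (b i) (c • b.coord j) (by simp [h])
    have : f = t := by
      apply LinearEquiv.toLinearMap_injective
      apply (LinearMap.toMatrix b b).injective
      rw [hf]
      ext k l
      rw [LinearMap.toMatrix_apply]
      change _ = b.repr (t (b l)) k
      rw [h1]
      simp only [LinearMap.smul_apply, Basis.coord_apply, Basis.repr_self, smul_eq_mul, map_add,
        map_smul, Finsupp.add_apply, Finsupp.smul_apply]
      change ((1 : Matrix (Fin n) (Fin n) K) + Matrix.single i j c) k l = _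
      rw [Matrix.add_apply, Matrix.one_apply, Matrix.single_apply, Finsupp.single_apply,
        Finsupp.single_apply, Finsupp.single_apply]
      by_cases e1 : i = k <;> by_cases e2 : j = l <;> by_cases e3 : l = k <;>
        simp_all [eq_comm]
    rw [this]
    exact ht
  | hmul A B hA hB =>
    intro f hf
    let B' : W ≃ₗ[K] W := LinearEquiv.ofLinearMap
      (Matrix.toLin b b (B : Matrix (Fin n) (Fin n) K))
      (Matrix.toLin b b ((B⁻¹ : Matrix.SpecialLinearGroup (Fin n) K) : Matrix (Fin n) (Fin n) K))
      (by
        rw [← Matrix.toLin_mul, ← Matrix.SpecialLinearGroup.coe_mul, mul_inv_cancel,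
          Matrix.SpecialLinearGroup.coe_one, Matrix.toLin_one])
      (by
        rw [← Matrix.toLin_mul, ← Matrix.SpecialLinearGroup.coe_mul, inv_mul_cancel,
          Matrix.SpecialLinearGroup.coe_one, Matrix.toLin_one])
    have h1 : B' ∈ S := by
      apply hB
      change LinearMap.toMatrix b b (Matrix.toLin b b (B : Matrix (Fin n) (Fin n) K)) = _
      rw [LinearMap.toMatrix_toLin]
    have h2 : f * B'⁻¹ ∈ S := by
      apply hA
      change LinearMap.toMatrix b b ((f : W →ₗ[K] W) ∘ₗ
        (Matrix.toLin b b ((B⁻¹ : Matrix.SpecialLinearGroup (Fin n) K) :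
          Matrix (Fin n) (Fin n) K))) = _
      rw [LinearMap.toMatrix_comp b b b, hf, LinearMap.toMatrix_toLin,
        ← Matrix.SpecialLinearGroup.coe_mul, mul_assoc, mul_inv_cancel, mul_one]
    have := S.mul_mem h2 h1
    rwa [inv_mul_cancel_right] at this

/-- A subgroup of `GL(W)` containing all transvections contains `SL(W)`. -/
theorem mem_of_det_eq_one [FiniteDimensional K W] (h2 : 2 ≤ finrank K W)
    (S : Subgroup (W ≃ₗ[K] W))
    (hS : ∀ (a : W) (φ : Dual K W), φ a = 0 → ∃ t ∈ S, ∀ x, t x = x + φ x • a)
    (f : W ≃ₗ[K] W) (hf : LinearMap.det (f : W →ₗ[K] W) = 1) : f ∈ S := by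
  have : Nontrivial (Fin (finrank K W)) := Fin.nontrivial_iff_two_le.2 h2
  let b := Module.finBasis K W
  refine mem_of_matrix b S hS ⟨LinearMap.toMatrix b b (f : W →ₗ[K] W), ?_⟩ f rfl
  rw [LinearMap.det_toMatrix, hf]

/-- The fixed space. -/
def fixS (g : W ≃ₗ[K] W) : Submodule K W where
  carrier := {x | g x = x}
  add_mem' h h' := by
    change g _ = _
    rw [map_add, show g _ = _ from h, show g _ = _ from h']
  zero_mem' := map_zero g
  smul_mem' c x h := by
    change g _ = _
    rw [map_smul, show g _ = _ from h]

theorem mem_fixS {g : W ≃ₗ[K] W} {x : W} : x ∈ fixS g ↔ g x = x := Iff.rfl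

theorem exists_step [FiniteDimensional K W] (B : LinearMap.BilinForm K W) (hB : B.IsAlt)
    (S : Subgroup (W ≃ₗ[K] W))
    (hS : ∀ (a : W) (c : K), ∃ t ∈ S, ∀ x, t x = x + (c * B a x) • a) (g : W ≃ₗ[K] W)
    (hg : ∀ x y, B (g x) (g y) = B x y) {x : W} (hx : B x (g x) ≠ 0) :
    ∃ t ∈ S, (∀ y z, B ((t * g) y) ((t * g) z) = B y z) ∧ fixS g < fixS (t * g) := by
  obtain ⟨t, ht, h1⟩ := hS (g x - x) (B x (g x))⁻¹
  have hsk : ∀ u v, B u v = - B v u := fun u v => (hB.neg_eq v u).symm
  refine ⟨t, ht, ?_, ?_⟩
  · intro y z
    change B (t (g y)) (t (g z)) = _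
    rw [h1, h1]
    set u := g x - x with hu
    set c := (B x (g x))⁻¹ with hc
    simp only [map_add, map_smul, LinearMap.add_apply, LinearMap.smul_apply, smul_eq_mul]
    rw [hB u, hg, hsk (g y) u]
    ring
  · have hx1 : (t * g) x = x := by
      change t (g x) = x
      rw [h1]
      have : B (g x - x) (g x) = - B x (g x) := by
        rw [map_sub, LinearMap.sub_apply, hB (g x), zero_sub]
      rw [this, mul_neg, inv_mul_cancel₀ hx, neg_one_smul]
      abel
    refine lt_of_le_of_ne ?_ ?_
    · intro y hy
      rw [mem_fixS] at hy ⊢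
      change t (g y) = y
      rw [h1, hy]
      have : B (g x - x) y = 0 := by
        rw [map_sub, LinearMap.sub_apply]
        nth_rewrite 1 [← hy]
        rw [hg, sub_self]
      rw [this, mul_zero, zero_smul, add_zero]
    · intro h
      have h2 : x ∈ fixS g := by
        rw [h]
        exact hx1
      rw [mem_fixS] at h2
      apply hx
      rw [h2]
      exact hB x

/-- A subgroup of `GL(W)` containing the symplectic transvections contains all isometries. -/
theorem mem_of_isometry [FiniteDimensional K W] (B : LinearMap.BilinForm K W) (hB : B.IsAlt)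
    (hnd : ∀ x, (∀ y, B x y = 0) → x = 0) (S : Subgroup (W ≃ₗ[K] W))
    (hS : ∀ (a : W) (c : K), ∃ t ∈ S, ∀ x, t x = x + (c * B a x) • a) (g : W ≃ₗ[K] W)
    (hg : ∀ x y, B (g x) (g y) = B x y) : g ∈ S := by
  have hsk : ∀ u v, B u v = - B v u := fun u v => (hB.neg_eq v u).symm
  suffices h : ∀ (n : ℕ) (g : W ≃ₗ[K] W), (∀ x y, B (g x) (g y) = B x y) →
      finrank K W ≤ finrank K (fixS g) + n → g ∈ S from
    h (finrank K W) g hg (Nat.le_add_left _ _)
  intro n
  induction n with
  | zero =>
    intro g hg hn
    have h1 : fixS g = ⊤ := Submodule.eq_top_of_finrank_eq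
      (le_antisymm (Submodule.finrank_le _) (by simpa using hn))
    have h2 : g = 1 := by
      ext x
      have : x ∈ fixS g := by rw [h1]; trivial
      exact this
    rw [h2]
    exact S.one_mem
  | succ n ih =>
    intro g hg hn
    -- reduction of the generic case
    have gen : ∀ g' : W ≃ₗ[K] W, (∀ x y, B (g' x) (g' y) = B x y) → fixS g ≤ fixS g' →
        (∃ x, B x (g' x) ≠ 0) → g' ∈ S := by
      rintro g' hg' hle ⟨x, hx⟩
      obtain ⟨t, ht, h1, h2⟩ := exists_step B hB S hS g' hg' hx
      have h3 := Submodule.finrank_lt_finrank_of_lt h2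
      have h4 := Submodule.finrank_mono hle
      have h5 := ih (t * g') h1 (by omega)
      have := S.mul_mem (S.inv_mem ht) h5
      rwa [inv_mul_cancel_left] at this
    by_cases h1 : ∃ x, B x (g x) ≠ 0
    · exact gen g hg le_rfl h1
    · push Not at h1
      by_cases h2 : ∀ x, g x = x
      · have : g = 1 := by
          ext x
          exact h2 x
        rw [this]
        exact S.one_mem
      push Not at h2
      obtain ⟨x, hx⟩ := h2
      obtain ⟨s, hs, h3⟩ := hS (g x - x) 1
      have hu : g x - x ≠ 0 := sub_ne_zero.2 hx
      have e1 : ∃ y, B (g x - x) (g y) ≠ 0 := by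
        by_contra hcon
        push Not at hcon
        apply hu
        apply hnd
        intro y
        have := hcon (g.symm y)
        rwa [LinearEquiv.apply_symm_apply] at this
      have e2 : ∃ y, B y (g x - x) ≠ 0 := by
        by_contra hcon
        push Not at hcon
        apply hu
        apply hnd
        intro y
        rw [hsk, hcon, neg_zero]
      have e3 : ∃ y, B (g x - x) (g y) ≠ 0 ∧ B y (g x - x) ≠ 0 := by
        obtain ⟨y1, k1⟩ := e1
        obtain ⟨y2, k2⟩ := e2
        by_cases c1 : B y1 (g x - x) = 0
        · by_cases c2 : B (g x - x) (g y2) = 0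
          · refine ⟨y1 + y2, ?_, ?_⟩
            · rw [map_add, map_add, c2, add_zero]
              exact k1
            · rw [map_add, LinearMap.add_apply, c1, zero_add]
              exact k2
          · exact ⟨y2, c2, k2⟩
        · exact ⟨y1, k1, c1⟩
      have h5 : s * g ∈ S := by
        apply gen
        · intro y z
          change B (s (g y)) (s (g z)) = _
          rw [h3, h3]
          simp only [map_add, map_smul, LinearMap.add_apply, LinearMap.smul_apply, smul_eq_mul,
            one_mul]
          rw [hB (g x - x), hg, hsk (g y) (g x - x)]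
          ring
        · intro y hy
          rw [mem_fixS] at hy ⊢
          change s (g y) = y
          rw [h3, hy]
          have : B (g x - x) y = 0 := by
            rw [map_sub, LinearMap.sub_apply]
            nth_rewrite 1 [← hy]
            rw [hg, sub_self]
          rw [this, mul_zero, zero_smul, add_zero]
        · obtain ⟨y, k1, k2⟩ := e3
          refine ⟨y, ?_⟩
          change B y (s (g y)) ≠ 0
          rw [h3, map_add, h1, zero_add, map_smul, smul_eq_mul, one_mul]
          exact mul_ne_zero k1 k2
      have := S.mul_mem (S.inv_mem hs) h5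
      rwa [inv_mul_cancel_left] at this

end Cfsg.Agent.H743.McL
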