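import Mathlib
import Cfsg.Agent.H743.TvGen
import Cfsg.Agent.Involutions.BaerSuzuki
set_option linter.all false

-- part: H743/Tv
section
/-!
# Groups generated by transvections: basic calculus

`Tv H a φ` says that `φ a = 0` and that the transvection `x ↦ x + φ x • a` lies in `H ≤ GL(V)`.
`Full H`: with a transvection the whole transvection group lies in `H`; then `Phi H a`, the set of all `φ`
with `Tv H a φ`, is a subspace of the dual.
`Cmp H a b`: `a`, `b` lie in the same component of the graph of centres, where `a` and `b` are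
joined if `φ b ≠ 0 ≠ ψ a` for some `φ ∈ Phi a`, `ψ ∈ Phi b`.
-/

set_option autoImplicit false
set_option linter.unusedVariables false
set_option linter.unusedSimpArgs false
set_option linter.unusedSectionVars false

namespace Cfsg.Agent.H743.McL

open Module

variable {K V : Type*} [Field K] [AddCommGroup V] [Module K V]

/-- The transvection `x ↦ x + φ x • a` (with `φ a = 0`) belongs to `H`. -/
def Tv (H : Subgroup (V ≃ₗ[K] V)) (a : V) (φ : Dual K V) : Prop :=
  φ a = 0 ∧ ∃ t ∈ H, ∀ x, t x = x + φ x • a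

variable {H : Subgroup (V ≃ₗ[K] V)}

theorem Tv.apply_self {a : V} {φ : Dual K V} (h : Tv H a φ) : φ a = 0 := h.1

theorem tv_zero_left (φ : Dual K V) : Tv H 0 φ :=
  ⟨map_zero φ, 1, H.one_mem, fun x => by simp⟩

theorem tv_zero_right (a : V) : Tv H a (0 : Dual K V) :=
  ⟨rfl, 1, H.one_mem, fun x => by simp⟩

theorem Tv.add_right {a : V} {φ ψ : Dual K V} (h : Tv H a φ) (h' : Tv H a ψ) : Tv H a (φ + ψ) := by
  obtain ⟨h1, t, ht, h2⟩ := h
  obtain ⟨h3, s, hs, h4⟩ := h'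
  refine ⟨by simp [h1, h3], t * s, H.mul_mem ht hs, fun x => ?_⟩
  change t (s x) = _
  rw [h4, h2]
  simp only [map_add, map_smul, h1, smul_zero, add_zero, LinearMap.add_apply, add_smul]
  abel

theorem Tv.add_left {a b : V} {φ : Dual K V} (h : Tv H a φ) (h' : Tv H b φ) : Tv H (a + b) φ := by
  obtain ⟨h1, t, ht, h2⟩ := h
  obtain ⟨h3, s, hs, h4⟩ := h'
  refine ⟨by simp [h1, h3], t * s, H.mul_mem ht hs, fun x => ?_⟩
  change t (s x) = _
  rw [h4, h2]
  simp only [map_add, map_smul, h3, smul_zero, add_zero, smul_add]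
  abel

theorem Tv.neg_right {a : V} {φ : Dual K V} (h : Tv H a φ) : Tv H a (-φ) := by
  obtain ⟨h1, t, ht, h2⟩ := h
  refine ⟨by simp [h1], t⁻¹, H.inv_mem ht, fun x => ?_⟩
  rw [show (t⁻¹ : V ≃ₗ[K] V) x = t.symm x from rfl, LinearEquiv.symm_apply_eq, h2]
  simp [h1]

theorem Tv.smul_left {a : V} {φ : Dual K V} {c : K} (h : Tv H a (c • φ)) : Tv H (c • a) φ := by
  obtain ⟨h1, t, ht, h2⟩ := h
  refine ⟨by simpa using h1, t, ht, fun x => ?_⟩
  rw [h2, LinearMap.smul_apply, smul_eq_mul, smul_smul, mul_comm]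

theorem Tv.of_smul_left {a : V} {φ : Dual K V} {c : K} (hc : c ≠ 0) (h : Tv H (c • a) φ) :
    Tv H a (c • φ) := by
  obtain ⟨h1, t, ht, h2⟩ := h
  refine ⟨by simpa [hc] using h1, t, ht, fun x => ?_⟩
  rw [h2, LinearMap.smul_apply, smul_eq_mul, smul_smul, mul_comm]

theorem Tv.conj {a : V} {φ : Dual K V} (h : Tv H a φ) {g : V ≃ₗ[K] V} (hg : g ∈ H) :
    Tv H (g a) (φ ∘ₗ (g.symm : V →ₗ[K] V)) := by
  obtain ⟨h1, t, ht, h2⟩ := h
  refine ⟨by simp [h1], g * t * g⁻¹, H.mul_mem (H.mul_mem hg ht) (H.inv_mem hg), fun x => ?_⟩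
  change g (t (g.symm x)) = _
  rw [h2]
  simp

/-- All scalar multiples of transvections of `H` are in `H`. -/
def Full (H : Subgroup (V ≃ₗ[K] V)) : Prop := ∀ a φ (c : K), Tv H a φ → Tv H a (c • φ)

theorem Full.smul_left (hF : Full H) {a : V} {φ : Dual K V} (c : K) (h : Tv H a φ) :
    Tv H (c • a) φ := (hF a φ c h).smul_left

theorem Full.sub_left (hF : Full H) {a b : V} {φ : Dual K V} (h : Tv H a φ) (h' : Tv H b φ) :
    Tv H (a - b) φ := by
  have := h.add_left (hF.smul_left (-1) h')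
  rwa [neg_one_smul, ← sub_eq_add_neg] at this

/-- Conjugation of `b ⊗ ψ` by the transvection `c • (a ⊗ φ)`. -/
theorem Full.conj_tv (hF : Full H) {a b : V} {φ ψ : Dual K V} (h : Tv H a φ) (h' : Tv H b ψ) (c : K) :
    Tv H (b + (c * φ b) • a) (ψ - (c * ψ a) • φ) := by
  obtain ⟨h1, t, ht, h2⟩ := hF a φ c h
  have hs : ∀ x, t.symm x = x - (c * φ x) • a := by
    intro x
    rw [LinearEquiv.symm_apply_eq, h2]
    have h1' : c * φ a = 0 := by simpa using h1
    simp only [LinearMap.smul_apply, smul_eq_mul, map_sub, map_smul, sub_smul]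
    rw [h1']
    simp
  have h3 := h'.conj ht
  rw [h2] at h3
  have h4 : (ψ ∘ₗ (t.symm : V →ₗ[K] V)) = ψ - (c * ψ a) • φ := by
    ext x
    simp only [LinearMap.sub_apply, LinearMap.smul_apply, smul_eq_mul, LinearMap.comp_apply,
      LinearEquiv.coe_coe, hs, map_sub, map_smul]
    ring
  rw [h4] at h3
  exact h3

/-- Key lemma: if `φ b ≠ 0` and `ψ a = 0` then `a ⊗ ψ` is in `H` as well. -/
theorem Full.key (hF : Full H) {a b : V} {φ ψ : Dual K V} (h : Tv H a φ) (h' : Tv H b ψ)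
    (hφ : φ b ≠ 0) (hψ : ψ a = 0) : Tv H a ψ := by
  have h3 := hF.conj_tv h h' (φ b)⁻¹
  rw [hψ, mul_zero, zero_smul, sub_zero, inv_mul_cancel₀ hφ, one_smul] at h3
  have := hF.sub_left h3 h'
  rwa [add_sub_cancel_left] at this

theorem Full.sub_smul_right (hF : Full H) {a : V} {φ ψ : Dual K V} (h : Tv H a φ) (h' : Tv H a ψ)
    (c : K) : Tv H a (φ - c • ψ) := by
  have h1 := Tv.add_right h (hF _ _ (-c) h')
  have h2 : φ + (-c) • ψ = φ - c • ψ := by module
  rwa [h2] at h1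

/-- `Phi a`: the functionals `φ` with `a ⊗ φ` in `H`. -/
def Phi (hF : Full H) (a : V) : Submodule K (Dual K V) where
  carrier := {φ | Tv H a φ}
  add_mem' h h' := h.add_right h'
  zero_mem' := tv_zero_right a
  smul_mem' c _ h := hF _ _ c h

theorem mem_Phi (hF : Full H) {a : V} {φ : Dual K V} : φ ∈ Phi hF a ↔ Tv H a φ := Iff.rfl

/-- Adjacency of centres. -/
def Rel (H : Subgroup (V ≃ₗ[K] V)) (a b : V) : Prop :=
  ∃ φ ψ : Dual K V, Tv H a φ ∧ Tv H b ψ ∧ φ b ≠ 0 ∧ ψ a ≠ 0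

theorem Rel.symm {a b : V} (h : Rel H a b) : Rel H b a := by
  obtain ⟨φ, ψ, h1, h2, h3, h4⟩ := h
  exact ⟨ψ, φ, h2, h1, h4, h3⟩

/-- Same component. -/
def Cmp (H : Subgroup (V ≃ₗ[K] V)) (a b : V) : Prop := Relation.ReflTransGen (Rel H) a b

theorem Cmp.refl (a : V) : Cmp H a a := Relation.ReflTransGen.refl

theorem Cmp.trans {a b c : V} (h : Cmp H a b) (h' : Cmp H b c) : Cmp H a c :=
  Relation.ReflTransGen.trans h h'

theorem Cmp.symm {a b : V} (h : Cmp H a b) : Cmp H b a := by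
  induction h with
  | refl => exact Cmp.refl a
  | tail _ h2 ih => exact (Relation.ReflTransGen.single h2.symm).trans ih

theorem Rel.cmp {a b : V} (h : Rel H a b) : Cmp H a b := Relation.ReflTransGen.single h

/-- In the graph every centre is joined to another one. -/
def NI (H : Subgroup (V ≃ₗ[K] V)) : Prop :=
  ∀ a φ, Tv H a φ → a ≠ 0 → φ ≠ 0 → ∃ b ψ, Tv H b ψ ∧ φ b ≠ 0 ∧ ψ a ≠ 0

/-- Adjacent centres are conjugate. -/
theorem Rel.exists_map (hF : Full H) {a b : V} (h : Rel H a b) : ∃ g ∈ H, g b = a := by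
  obtain ⟨φ, ψ, h1, h2, h3, h4⟩ := h
  obtain ⟨-, t, ht, h5⟩ := hF a φ (φ b)⁻¹ h1
  obtain ⟨-, s, hs, h6⟩ := hF b ψ (-(ψ a)⁻¹) h2
  refine ⟨s * t, H.mul_mem hs ht, ?_⟩
  change s (t b) = a
  rw [h5, h6]
  simp [h3, h4, h2.1]

theorem Cmp.exists_map (hF : Full H) {a b : V} (h : Cmp H a b) : ∃ g ∈ H, g b = a := by
  induction h with
  | refl => exact ⟨1, H.one_mem, rfl⟩
  | tail _ h2 ih =>
    obtain ⟨g, hg, h3⟩ := ih
    obtain ⟨g', hg', h4⟩ := h2.exists_map hF
    refine ⟨g * g', H.mul_mem hg hg', ?_⟩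
    change g (g' _) = _
    rw [h4, h3]

theorem Phi_map (hF : Full H) {g : V ≃ₗ[K] V} (hg : g ∈ H) (a : V) :
    Phi hF (g a) = (Phi hF a).map (g.symm.dualMap : Dual K V →ₗ[K] Dual K V) := by
  ext φ
  constructor
  · intro h
    refine ⟨φ ∘ₗ (g : V →ₗ[K] V), ?_, ?_⟩
    · have := Tv.conj (h : Tv H (g a) φ) (H.inv_mem hg)
      have h2 : (g⁻¹ : V ≃ₗ[K] V) (g a) = a := g.symm_apply_apply a
      rw [h2] at this
      exact this
    · ext x
      simp
  · rintro ⟨ψ, h1, rfl⟩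
    exact Tv.conj (h1 : Tv H a ψ) hg

theorem Cmp.finrank_eq (hF : Full H) {a b : V} (h : Cmp H a b) :
    finrank K (Phi hF a) = finrank K (Phi hF b) := by
  obtain ⟨g, hg, rfl⟩ := h.exists_map hF
  rw [Phi_map hF hg]
  exact LinearEquiv.finrank_map_eq g.symm.dualMap _

/-- Non-orthogonality of centres. -/
def NP (H : Subgroup (V ≃ₗ[K] V)) (a b : V) : Prop := ∃ φ : Dual K V, Tv H a φ ∧ φ b ≠ 0

theorem Rel.np {a b : V} (h : Rel H a b) : NP H a b := by
  obtain ⟨φ, ψ, h1, h2, h3, h4⟩ := h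
  exact ⟨φ, h1, h3⟩

theorem NP.ne_zero {a b : V} (h : NP H a b) : b ≠ 0 := by
  rintro rfl
  obtain ⟨φ, h1, h3⟩ := h
  exact h3 (map_zero φ)

section FD
variable [FiniteDimensional K V]

theorem Cmp.np_symm (hF : Full H) {a b : V} (h : Cmp H a b) (hn : NP H a b) : NP H b a := by
  by_contra hcon
  have h0 : ∀ ψ : Dual K V, Tv H b ψ → ψ a = 0 := by
    intro ψ hψ
    by_contra h1
    exact hcon ⟨ψ, hψ, h1⟩
  obtain ⟨φ, h1, h2⟩ := hn
  have hle : Phi hF b ≤ Phi hF a := fun ψ hψ => hF.key h1 hψ h2 (h0 ψ hψ)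
  have heq : Phi hF b = Phi hF a := Submodule.eq_of_le_of_finrank_eq hle (h.symm.finrank_eq hF)
  have h3 : φ ∈ Phi hF b := by rw [heq]; exact h1
  exact h2 (h3 : Tv H b φ).1

theorem Cmp.rel_of_np (hF : Full H) {a b : V} (h : Cmp H a b) (hn : NP H a b) : Rel H a b := by
  obtain ⟨ψ, h3, h4⟩ := h.np_symm hF hn
  obtain ⟨φ, h1, h2⟩ := hn
  exact ⟨φ, ψ, h1, h3, h2, h4⟩

/-- Two centres with a common functional are in the same component. -/
theorem cmp_of_common (hN : NI H) {a b : V} {ψ : Dual K V} (hψ : ψ ≠ 0) (ha : a ≠ 0) (hb : b ≠ 0)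
    (h1 : Tv H a ψ) (h2 : Tv H b ψ) : Cmp H a b := by
  obtain ⟨c, χ, h3, h4, h5⟩ := hN a ψ h1 ha hψ
  obtain ⟨c', χ', h3', h4', h5'⟩ := hN b ψ h2 hb hψ
  have r1 : Rel H a c := ⟨ψ, χ, h1, h3, h4, h5⟩
  have r2 : Rel H b c' := ⟨ψ, χ', h2, h3', h4', h5'⟩
  by_cases e1 : χ b = 0
  · by_cases e2 : χ' a = 0
    · have h6 : Tv H (a + b) ψ := h1.add_left h2
      have r3 : Rel H (a + b) c := ⟨ψ, χ, h6, h3, h4, by simpa [e1] using h5⟩
      have r4 : Rel H (a + b) c' := ⟨ψ, χ', h6, h3', h4', by simpa [e2] using h5'⟩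
      exact (r1.cmp.trans r3.symm.cmp).trans (r4.cmp.trans r2.symm.cmp)
    · have r3 : Rel H a c' := ⟨ψ, χ', h1, h3', h4', e2⟩
      exact r3.cmp.trans r2.symm.cmp
  · have r3 : Rel H b c := ⟨ψ, χ, h2, h3, h4, e1⟩
    exact r1.cmp.trans r3.symm.cmp

/-- Centres of different components are orthogonal. -/
theorem cmp_of_np (hF : Full H) (hN : NI H) {a b : V} {ψ : Dual K V} (ha : a ≠ 0)
    (hb : Tv H b ψ) (hψ : ψ ≠ 0) (hn : NP H a b) : Cmp H a b := by
  by_cases hr : NP H b a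
  · obtain ⟨χ, h3, h4⟩ := hr
    obtain ⟨φ, h1, h2⟩ := hn
    exact Rel.cmp ⟨φ, χ, h1, h3, h2, h4⟩
  · have h0 : ψ a = 0 := by
      by_contra h1
      exact hr ⟨ψ, hb, h1⟩
    obtain ⟨φ, h1, h2⟩ := id hn
    have h3 : Tv H a ψ := hF.key h1 hb h2 h0
    exact cmp_of_common hN hψ ha hn.ne_zero h3 hb

end FD

end Cfsg.Agent.H743.McL
end

-- part: H743/TvSL
section
/-!
# Components of transvection groups: the linear case

In a component in which `Phi a` has dimension at least two, the centres and `0` form a subspace `W`,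
`V = W ⊕ C` with `C` the common kernel of all functionals of the component, and every transvection
of `W` is induced by a transvection of `H` with the same centre.
-/

set_option autoImplicit false
set_option linter.unusedVariables false
set_option linter.unusedSimpArgs false
set_option linter.unusedSectionVars false

namespace Cfsg.Agent.H743.McL

open Module

variable {K V : Type*} [Field K] [AddCommGroup V] [Module K V] {H : Subgroup (V ≃ₗ[K] V)}

/-- `a` is a non-isolated centre. -/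
def Ctr (H : Subgroup (V ≃ₗ[K] V)) (a : V) : Prop := ∃ b, Rel H a b

theorem Ctr.ne_zero {a : V} (h : Ctr H a) : a ≠ 0 := by
  obtain ⟨b, hb⟩ := h
  exact hb.symm.np.ne_zero

theorem Ctr.of_cmp {a b : V} (h : Ctr H a) (h' : Cmp H a b) : Ctr H b := by
  induction h' with
  | refl => exact h
  | tail _ h2 _ => exact ⟨_, h2.symm⟩

theorem Ctr.cmp_smul (hF : Full H) {a : V} (h : Ctr H a) {c : K} (hc : c ≠ 0) : Cmp H a (c • a) := by
  obtain ⟨b, hb⟩ := h
  have hb' := hb
  obtain ⟨φ, ψ, h1, h2, h3, h4⟩ := hb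
  have : Rel H (c • a) b := ⟨φ, ψ, hF.smul_left c h1, h2, h3, by simp [hc, h4]⟩
  exact hb'.cmp.trans this.symm.cmp

/-- All `b + l • a` are centres if `a`, `b` are adjacent. -/
theorem Rel.line (hF : Full H) {a b : V} (h : Rel H a b) (l : K) : Rel H a (b + l • a) := by
  obtain ⟨φ, ψ, h1, h2, h3, h4⟩ := h
  have h5 := hF.conj_tv h1 h2 (l * (φ b)⁻¹)
  rw [show l * (φ b)⁻¹ * φ b = l by field_simp] at h5
  exact ⟨φ, _, h1, h5, by simpa [h1.1] using h3, by simpa [h1.1] using h4⟩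

section FD
variable [FiniteDimensional K V]

/-- The graph of a component has diameter at most two. -/
theorem Ctr.exists_mid (hF : Full H) {a c : V} (h : Ctr H a) (h' : Cmp H a c) :
    ∃ b, Rel H a b ∧ Rel H b c := by
  induction h' with
  | refl => obtain ⟨b, hb⟩ := h; exact ⟨b, hb, hb.symm⟩
  | @tail c' c h1 h2 ih =>
    obtain ⟨b, h3, h4⟩ := ih
    by_cases e1 : NP H b c
    · exact ⟨b, h3, (h4.cmp.trans h2.cmp).rel_of_np hF e1⟩
    by_cases e2 : NP H a c'
    · exact ⟨c', Cmp.rel_of_np hF h1 e2, h2⟩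
    have h5 : Rel H b (c' + (1 : K) • b) := h4.line hF 1
    rw [one_smul] at h5
    have h6 : Cmp H a (c' + b) := h3.cmp.trans h5.cmp
    have h7 : Cmp H c (c' + b) := (Cmp.trans h1 h2.cmp).symm.trans h6
    refine ⟨c' + b, h6.rel_of_np hF ?_, (h7.rel_of_np hF ?_).symm⟩
    · obtain ⟨φ, k1, k2⟩ := h3.np
      refine ⟨φ, k1, ?_⟩
      have : φ c' = 0 := by
        by_contra h0
        exact e2 ⟨φ, k1, h0⟩
      simpa [this] using k2
    · obtain ⟨χ, k1, k2⟩ := h2.symm.np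
      refine ⟨χ, k1, ?_⟩
      have : χ b = 0 := by
        by_contra h0
        exact e1 ((h4.cmp.trans h2.cmp).symm.np_symm hF ⟨χ, k1, h0⟩)
      simpa [this] using k2

theorem exists_ne_zero_of_two_le {E : Submodule K (Dual K V)} (h : 2 ≤ finrank K E) (x : V) :
    ∃ θ ∈ E, θ ≠ 0 ∧ θ x = 0 := by
  let ev : E →ₗ[K] K := (Module.Dual.eval K V x).domRestrict E
  have h1 : ¬ Function.Injective ev := by
    intro h0
    have := LinearMap.finrank_le_finrank_of_injective h0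
    rw [finrank_self] at this
    omega
  have h2 : ∃ θ : E, θ ≠ 0 ∧ ev θ = 0 := by
    by_contra hcon
    push Not at hcon
    apply h1
    rw [injective_iff_map_eq_zero]
    intro a ha
    by_contra h3
    exact hcon a h3 ha
  obtain ⟨θ, h3, h4⟩ := h2
  exact ⟨θ, θ.2, fun h0 => h3 (Subtype.ext h0), h4⟩

/-- Two orthogonal centres of a component with `dim Phi ≥ 2` have a common functional. -/
theorem exists_common (hF : Full H) {x y : V} (hx : Ctr H x) (hxy : Cmp H x y)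
    (hm : 2 ≤ finrank K (Phi hF x)) (hn : ¬ NP H x y) : ∃ θ : Dual K V, θ ≠ 0 ∧ Tv H x θ ∧ Tv H y θ := by
  obtain ⟨c, h1, h2⟩ := hx.exists_mid hF hxy
  rw [h1.cmp.finrank_eq hF] at hm
  obtain ⟨θ, k1, k2, k3⟩ := exists_ne_zero_of_two_le hm x
  obtain ⟨φ, k4, k5⟩ := h1.np
  have k6 : Tv H x θ := hF.key k4 k1 k5 k3
  obtain ⟨φ', k7, k8⟩ := h2.symm.np
  have k9 : θ y = 0 := by
    by_contra h0
    exact hn ⟨θ, k6, h0⟩
  exact ⟨θ, k2, k6, hF.key k7 k1 k8 k9⟩

theorem add_cmp_of_common (hF : Full H) (hN : NI H) {x y : V} {θ : Dual K V} (hθ : θ ≠ 0)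
    (h1 : Tv H x θ) (h2 : Tv H y θ) (hx : x ≠ 0) (h0 : x + y ≠ 0) : Cmp H x (x + y) :=
  cmp_of_common hN hθ hx h0 h1 (h1.add_left h2)

theorem add_cmp (hF : Full H) (hN : NI H) {x y : V} (hx : Ctr H x) (hxy : Cmp H x y)
    (hm : 2 ≤ finrank K (Phi hF x)) (h0 : x + y ≠ 0) : Cmp H x (x + y) := by
  by_cases hn : NP H x y
  · have := (hxy.rel_of_np hF hn).line hF 1
    rw [one_smul, add_comm] at this
    exact this.cmp
  · obtain ⟨θ, h1, h2, h3⟩ := exists_common hF hx hxy hm hn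
    exact add_cmp_of_common hF hN h1 h2 h3 hx.ne_zero h0

theorem Phi_le_of_not_np (hF : Full H) (hN : NI H) {x y : V} (hx : Ctr H x) (hxy : Cmp H x y)
    (hm : 2 ≤ finrank K (Phi hF x)) (hn : ¬ NP H x y) : Phi hF x ≤ Phi hF y := by
  obtain ⟨θ, h1, h2, h3⟩ := exists_common hF hx hxy hm hn
  obtain ⟨c, χ, h4, h5, h6⟩ := hN x θ h2 hx.ne_zero h1
  intro φ hφ
  have k1 : Tv H x (φ - (φ c * (θ c)⁻¹) • θ) := hF.sub_smul_right hφ h2 _
  have k2 : (φ - (φ c * (θ c)⁻¹) • θ) c = 0 := by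
    simp only [LinearMap.sub_apply, LinearMap.smul_apply, smul_eq_mul]
    field_simp
    ring
  have k3 : Tv H c (φ - (φ c * (θ c)⁻¹) • θ) := hF.key h4 k1 h6 k2
  have k4 : (φ - (φ c * (θ c)⁻¹) • θ) y = 0 := by
    by_contra h0
    exact hn ⟨_, k1, h0⟩
  have k5 : Tv H y (φ - (φ c * (θ c)⁻¹) • θ) := hF.key h3 k3 h5 k4
  have := Tv.add_right k5 (hF _ _ (φ c * (θ c)⁻¹) h3)
  rw [sub_add_cancel] at this
  exact this

theorem eq_smul_of_not_np (hF : Full H) (hN : NI H) {x y : V} (hx : Ctr H x) (hxy : Cmp H x y)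
    (hm : 2 ≤ finrank K (Phi hF x)) (hn : ¬ NP H x y) : ∃ l : K, y = l • x := by
  have hm' : ∀ z, Cmp H x z → 2 ≤ finrank K (Phi hF z) := fun z hz => by
    rwa [← hz.finrank_eq hF]
  have hy : Ctr H y := hx.of_cmp hxy
  have hn' : ¬ NP H y x := fun h => hn (hxy.symm.np_symm hF h)
  have hle := Phi_le_of_not_np hF hN hx hxy hm hn
  have hge := Phi_le_of_not_np hF hN hy hxy.symm (hm' y hxy) hn'
  obtain ⟨z, hz⟩ := id hx
  have hzy : Rel H z y := by
    obtain ⟨φ, k1, k2⟩ := hz.np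
    exact ((hxy.symm.trans hz.cmp).rel_of_np hF ⟨φ, hle k1, k2⟩).symm
  obtain ⟨φ, k1, k2⟩ := hz.symm.np
  have hker : ∀ ψ : Dual K V, Tv H z ψ → ψ x = 0 → ψ y = 0 := by
    intro ψ hψ h0
    obtain ⟨χ, j1, j2⟩ := hz.np
    have : Tv H x ψ := hF.key j1 hψ j2 h0
    by_contra h1
    exact hn ⟨ψ, this, h1⟩
  have hw : ∀ ψ : Dual K V, Tv H z ψ → ψ (y - (φ y * (φ x)⁻¹) • x) = 0 := by
    intro ψ hψ
    have j1 : Tv H z (ψ - (ψ x * (φ x)⁻¹) • φ) := hF.sub_smul_right hψ k1 _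
    have j2 := hker _ j1 (by
      simp only [LinearMap.sub_apply, LinearMap.smul_apply, smul_eq_mul]
      field_simp
      ring)
    simp only [LinearMap.sub_apply, LinearMap.smul_apply, smul_eq_mul] at j2
    simp only [map_sub, map_smul, smul_eq_mul]
    linear_combination j2
  set l := φ y * (φ x)⁻¹ with hl
  by_cases h0 : y - l • x = 0
  · exact ⟨l, sub_eq_zero.1 h0⟩
  exfalso
  -- `w = y - l x` is a centre
  have hw1 : Cmp H x (y - l • x) := by
    by_cases hl0 : l = 0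
    · simpa [hl0] using hxy
    · have h3 : Cmp H y (-l • x) := hxy.symm.trans (hx.cmp_smul hF (neg_ne_zero.2 hl0))
      have h4 := add_cmp hF hN hy h3 (hm' y hxy) (by rwa [neg_smul, ← sub_eq_add_neg])
      rw [neg_smul, ← sub_eq_add_neg] at h4
      exact hxy.trans h4
  have hw2 : ¬ NP H z (y - l • x) := by
    rintro ⟨ψ, j1, j2⟩
    exact j2 (hw ψ j1)
  have hw3 : ¬ NP H x (y - l • x) := by
    rintro ⟨ψ, j1, j2⟩
    have j3 : ψ y = 0 := by
      by_contra h1
      exact hn ⟨ψ, j1, h1⟩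
    exact j2 (by simp [j3, j1.1])
  have hz1 : Cmp H z (y - l • x) := hz.cmp.symm.trans hw1
  have hle1 := Phi_le_of_not_np hF hN (hx.of_cmp hz.cmp) hz1 (hm' z hz.cmp) hw2
  have hge1 := Phi_le_of_not_np hF hN (hx.of_cmp hw1) hw1.symm (hm' _ hw1)
    (fun h => hw3 (hw1.symm.np_symm hF h))
  obtain ⟨ψ, j1, j2⟩ := hz.symm.np
  exact j2 (hge1 (hle1 j1) : Tv H x ψ).1

theorem exists_vec {W F : Type*} [AddCommGroup W] [Module K W] [FiniteDimensional K W]
    [AddCommGroup F] [Module K F] (r : F →ₗ[K] (W →ₗ[K] K)) (hr : Function.Injective r)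
    (g : F →ₗ[K] K) : ∃ w : W, ∀ φ, r φ w = g φ := by
  obtain ⟨s, hs⟩ := LinearMap.exists_leftInverse_of_injective r
    (LinearMap.ker_eq_bot_of_injective hr)
  obtain ⟨w, hw⟩ := (Module.evalEquiv K W).surjective (g ∘ₗ s)
  refine ⟨w, fun φ => ?_⟩
  have h1 : (g ∘ₗ s) (r φ) = g φ := by
    change g (s (r φ)) = _
    rw [show s (r φ) = φ from LinearMap.congr_fun hs φ]
  rw [← hw] at h1
  exact h1

/-- The closure property of a component needed for `WW`. -/
def AddC (H : Subgroup (V ≃ₗ[K] V)) (a₀ : V) : Prop :=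
  ∀ x y, Cmp H a₀ x → Cmp H a₀ y → x + y ≠ 0 → Cmp H a₀ (x + y)

/-- The subspace formed by `0` and the members of a component. -/
def WW (hF : Full H) {a₀ : V} (h₀ : Ctr H a₀) (hA : AddC H a₀) : Submodule K V where
  carrier := {x | x = 0 ∨ Cmp H a₀ x}
  add_mem' := by
    rintro x y (rfl | hx) hy
    · simpa using hy
    · rcases hy with rfl | hy
      · exact Or.inr (by simpa using hx)
      · by_cases h : x + y = 0
        · exact Or.inl h
        · exact Or.inr (hA x y hx hy h)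
  zero_mem' := Or.inl rfl
  smul_mem' c x := by
    rintro (rfl | hx)
    · exact Or.inl (smul_zero c)
    · by_cases hc : c = 0
      · exact Or.inl (by simp [hc])
      · exact Or.inr (hx.trans ((h₀.of_cmp hx).cmp_smul hF hc))

theorem mem_WW (hF : Full H) {a₀ : V} (h₀ : Ctr H a₀) (hA : AddC H a₀) {x : V} :
    x ∈ WW hF h₀ hA ↔ x = 0 ∨ Cmp H a₀ x := Iff.rfl

/-- The common kernel of the functionals of a component. -/
def CC (H : Subgroup (V ≃ₗ[K] V)) (a₀ : V) : Submodule K V where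
  carrier := {x | ∀ a φ, Cmp H a₀ a → Tv H a φ → φ x = 0}
  add_mem' h h' a φ ha hφ := by rw [map_add, h a φ ha hφ, h' a φ ha hφ, add_zero]
  zero_mem' a φ _ _ := map_zero φ
  smul_mem' c x h a φ ha hφ := by rw [map_smul, h a φ ha hφ, smul_zero]

theorem mem_CC {a₀ x : V} : x ∈ CC H a₀ ↔ ∀ a φ, Cmp H a₀ a → Tv H a φ → φ x = 0 := Iff.rfl

theorem disjoint_WW_CC (hF : Full H) {a₀ : V} (h₀ : Ctr H a₀) (hA : AddC H a₀) :
    Disjoint (WW hF h₀ hA) (CC H a₀) := by
  rw [Submodule.disjoint_def]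
  rintro x (rfl | hx) h2
  · rfl
  · exfalso
    obtain ⟨b, hb⟩ := h₀.of_cmp hx
    obtain ⟨φ, k1, k2⟩ := hb.symm.np
    exact k2 (h2 b φ (hx.trans hb.cmp) k1)

/-- `phi x` vanishing on `W` is zero. -/
theorem eq_zero_of_WW (hF : Full H) (hN : NI H) {a₀ : V} (h₀ : Ctr H a₀) (hA : AddC H a₀) {x : V}
    {φ : Dual K V} (hx : Cmp H a₀ x) (hφ : Tv H x φ) (h : ∀ w ∈ WW hF h₀ hA, φ w = 0) : φ = 0 := by
  by_contra h0
  obtain ⟨b, ψ, h1, h2, h3⟩ := hN x φ hφ (h₀.of_cmp hx).ne_zero h0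
  have : Rel H x b := ⟨φ, ψ, hφ, h1, h2, h3⟩
  exact h2 (h b (Or.inr (hx.trans this.cmp)))

theorem addC_of_two_le (hF : Full H) (hN : NI H) {a₀ : V} (h₀ : Ctr H a₀)
    (hm : 2 ≤ finrank K (Phi hF a₀)) : AddC H a₀ := by
  intro x y hx hy h
  exact hx.trans (add_cmp hF hN (h₀.of_cmp hx) (hx.symm.trans hy) (by rwa [← hx.finrank_eq hF]) h)

/-- Linear case: all functionals of `W` vanishing on `x` are induced by members of `Phi x`. -/
theorem sl_exists (hF : Full H) (hN : NI H) {a₀ : V} (h₀ : Ctr H a₀)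
    (hm : 2 ≤ finrank K (Phi hF a₀)) {x : V} (hx : Cmp H a₀ x)
    (g : Dual K (WW hF h₀ (addC_of_two_le hF hN h₀ hm))) (hg : g ⟨x, Or.inr hx⟩ = 0) :
    ∃ φ : Dual K V, Tv H x φ ∧ ∀ w : WW hF h₀ (addC_of_two_le hF hN h₀ hm), φ (w : V) = g w := by
  let W := WW hF h₀ (addC_of_two_le hF hN h₀ hm)
  let E : Submodule K (Dual K W) := (Phi hF x).map (W.subtype.dualMap)
  have h1 : E.dualCoannihilator ≤ Submodule.span K {(⟨x, Or.inr hx⟩ : W)} := by
    intro w hw
    rw [Submodule.mem_dualCoannihilator] at hw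
    have hn : ¬ NP H x (w : V) := by
      rintro ⟨φ, k1, k2⟩
      exact k2 (hw _ ⟨φ, k1, rfl⟩)
    rcases w.2 with h0 | h2
    · rw [show w = 0 from Subtype.ext h0]
      exact Submodule.zero_mem _
    · obtain ⟨l, hl⟩ := eq_smul_of_not_np hF hN (h₀.of_cmp hx) (hx.symm.trans h2)
        (by rwa [← hx.finrank_eq hF]) hn
      exact Submodule.mem_span_singleton.2 ⟨l, Subtype.ext hl.symm⟩
  have h2 : g ∈ E := by
    have h3 : (Submodule.dualCoannihilator E).dualAnnihilator = E :=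
      Subspace.dualCoannihilator_dualAnnihilator_eq
    rw [← h3, Submodule.mem_dualAnnihilator]
    intro w hw
    obtain ⟨l, rfl⟩ := Submodule.mem_span_singleton.1 (h1 hw)
    refine (map_smul g l _).trans ?_
    refine (congrArg (l • ·) hg).trans (smul_zero l)
  obtain ⟨φ, k1, rfl⟩ := h2
  exact ⟨φ, k1, fun w => rfl⟩

theorem sl_isCompl (hF : Full H) (hN : NI H) {a₀ : V} (h₀ : Ctr H a₀)
    (hm : 2 ≤ finrank K (Phi hF a₀)) :
    IsCompl (WW hF h₀ (addC_of_two_le hF hN h₀ hm)) (CC H a₀) := by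
  refine ⟨disjoint_WW_CC hF h₀ _, ?_⟩
  rw [codisjoint_iff, Submodule.eq_top_iff']
  intro v
  let W := WW hF h₀ (addC_of_two_le hF hN h₀ hm)
  obtain ⟨b₀, hb⟩ := id h₀
  have hm' : ∀ z, Cmp H a₀ z → 2 ≤ finrank K (Phi hF z) := fun z hz => by
    rwa [← hz.finrank_eq hF]
  let F : Submodule K (Dual K V) := Phi hF a₀ ⊔ Phi hF b₀
  -- all functionals lie in `F`
  have hall : ∀ c, Cmp H a₀ c → Phi hF c ≤ F := by
    intro c hc φ hφ
    by_cases e1 : NP H a₀ c
    swap
    · have hn : ¬ NP H c a₀ := fun h => e1 (hc.symm.np_symm hF h)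
      exact Submodule.mem_sup_left (Phi_le_of_not_np hF hN (h₀.of_cmp hc) hc.symm (hm' c hc) hn hφ)
    have hac : Rel H a₀ c := hc.rel_of_np hF e1
    by_cases e2 : NP H b₀ c
    swap
    · have hbc : Cmp H b₀ c := hb.cmp.symm.trans hc
      have hn : ¬ NP H c b₀ := fun h => e2 (hbc.symm.np_symm hF h)
      exact Submodule.mem_sup_right
        (Phi_le_of_not_np hF hN (h₀.of_cmp hc) hbc.symm (hm' c hc) hn hφ)
    have hbc : Rel H b₀ c := (hb.cmp.symm.trans hc).rel_of_np hF e2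
    by_cases e3 : ∃ θ, Tv H c θ ∧ θ b₀ = 0 ∧ θ a₀ ≠ 0
    · obtain ⟨θ, k1, k2, k3⟩ := e3
      have k4 : Tv H b₀ θ := by
        obtain ⟨χ, j1, j2⟩ := hbc.np
        exact hF.key j1 k1 j2 k2
      have k5 : Tv H c (φ - (φ a₀ * (θ a₀)⁻¹) • θ) := hF.sub_smul_right hφ k1 _
      have k6 : Tv H a₀ (φ - (φ a₀ * (θ a₀)⁻¹) • θ) := by
        obtain ⟨χ, j1, j2⟩ := hac.np
        refine hF.key j1 k5 j2 ?_
        simp only [LinearMap.sub_apply, LinearMap.smul_apply, smul_eq_mul]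
        field_simp
        ring
      have := F.add_mem (Submodule.mem_sup_left k6 : _ ∈ F)
        (F.smul_mem (φ a₀ * (θ a₀)⁻¹) (Submodule.mem_sup_right k4 : θ ∈ F))
      rwa [sub_add_cancel] at this
    · -- now `c` is in the span of `a₀` and `b₀`
      push Not at e3
      have h1 : ∃ l m : K, c = l • a₀ + m • b₀ := by
        by_contra hcon
        let x : W := ⟨c, Or.inr hc⟩
        let xa : W := ⟨a₀, Or.inr (Cmp.refl a₀)⟩
        let xb : W := ⟨b₀, Or.inr hb.cmp⟩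
        have hnot : xa ∉ Submodule.span K {x, xb} := by
          intro hmem
          obtain ⟨l, m, hlm⟩ := Submodule.mem_span_pair.1 hmem
          have hlm' : l • c + m • b₀ = a₀ := congrArg Subtype.val hlm
          by_cases hl : l = 0
          · rw [hl, zero_smul, zero_add] at hlm'
            obtain ⟨φ, k1, k2⟩ := hb.symm.np
            apply k2
            rw [← hlm', map_smul, k1.1, smul_zero]
          · apply hcon
            refine ⟨l⁻¹, -(l⁻¹ * m), ?_⟩
            rw [← hlm', smul_add, smul_smul, inv_mul_cancel₀ hl, one_smul, neg_smul, smul_smul]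
            abel
        obtain ⟨g, hg1, hg2⟩ := Submodule.exists_dual_map_eq_bot_of_notMem hnot inferInstance
        have hg3 : ∀ w ∈ Submodule.span K {x, xb}, g w = 0 := by
          intro w hw
          have : g w ∈ (Submodule.span K {x, xb}).map g := ⟨w, hw, rfl⟩
          rw [hg2] at this
          exact this
        obtain ⟨θ, k1, k2⟩ := sl_exists hF hN h₀ hm hc g (hg3 x (Submodule.subset_span (by simp)))
        refine hg1 ?_
        rw [← k2 xa]
        refine e3 θ k1 ?_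
        have := k2 xb
        rw [hg3 xb (Submodule.subset_span (by simp))] at this
        exact this
      obtain ⟨l, m, hlm⟩ := h1
      have hm0 : m ≠ 0 := by
        rintro rfl
        rw [zero_smul, add_zero] at hlm
        obtain ⟨φ, k1, k2⟩ := hac.np
        apply k2
        rw [hlm, map_smul, k1.1, smul_zero]
      -- `c = m • (b₀ + (l/m) • a₀)`
      obtain ⟨α, β, j1, j2, j3, j4⟩ := hb
      have hφ2 : Tv H (b₀ + (m⁻¹ * l) • a₀) φ := by
        have h5 : b₀ + (m⁻¹ * l) • a₀ = m⁻¹ • c := by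
          rw [hlm, smul_add, smul_smul, smul_smul, inv_mul_cancel₀ hm0, one_smul, add_comm]
        rw [h5]
        exact hF.smul_left m⁻¹ hφ
      -- transport `φ` back to `b₀`
      have hcα : (b₀ + (m⁻¹ * l) • a₀) + ((-(m⁻¹ * l) * (α b₀)⁻¹) * α (b₀ + (m⁻¹ * l) • a₀)) • a₀ = b₀ := by
        rw [map_add, map_smul, j1.1, smul_zero, add_zero,
          show -(m⁻¹ * l) * (α b₀)⁻¹ * α b₀ = -(m⁻¹ * l) by field_simp, neg_smul]
        abel
      have h6 := hF.conj_tv j1 hφ2 (-(m⁻¹ * l) * (α b₀)⁻¹)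
      rw [hcα] at h6
      have h7 : (φ - ((-(m⁻¹ * l) * (α b₀)⁻¹) * φ a₀) • α) ∈ F := Submodule.mem_sup_right h6
      have h8 : α ∈ F := Submodule.mem_sup_left (j1 : α ∈ Phi hF a₀)
      have := F.add_mem h7 (F.smul_mem ((-(m⁻¹ * l) * (α b₀)⁻¹) * φ a₀) h8)
      rwa [sub_add_cancel] at this
  -- restriction is injective
  have hinj : ∀ ε ∈ F, (∀ w ∈ W, ε w = 0) → ε = 0 := by
    intro ε hε h0
    obtain ⟨α, hα, β, hβ, rfl⟩ := Submodule.mem_sup.1 hε
    have h1 : β a₀ = 0 := by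
      have := h0 a₀ (Or.inr (Cmp.refl a₀))
      rwa [LinearMap.add_apply, (hα : Tv H a₀ α).1, zero_add] at this
    have h2 : Tv H a₀ β := by
      obtain ⟨χ, j1, j2⟩ := hb.np
      exact hF.key j1 (hβ : Tv H b₀ β) j2 h1
    exact eq_zero_of_WW hF hN h₀ _ (Cmp.refl a₀) (Tv.add_right (hα : Tv H a₀ α) h2) h0
  let r : F →ₗ[K] Dual K W := W.subtype.dualMap.domRestrict F
  have hr : Function.Injective r := by
    rw [injective_iff_map_eq_zero]
    rintro ⟨ε, hε⟩ h0
    apply Subtype.ext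
    refine hinj ε hε fun w hw => ?_
    exact LinearMap.congr_fun h0 (⟨w, hw⟩ : W)
  obtain ⟨w, hw⟩ := exists_vec (K := K) (F := F) (W := W) r hr
    ((Module.Dual.eval K V v).domRestrict F)
  have hwv : ∀ φ ∈ F, φ (w : V) = φ v := fun φ hφ => hw ⟨φ, hφ⟩
  rw [show v = (w : V) + (v - w) by abel]
  refine Submodule.add_mem_sup w.2 ?_
  intro a φ ha hφ
  rw [map_sub, hwv φ (hall a ha hφ), sub_self]

end FD

end Cfsg.Agent.H743.McL
end

-- part: H743/TvSp
section
/-!
# Components of transvection groups: the symplectic case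

A component in which `Phi a` has dimension one: the functionals can be normalised such that they
form a skew-symmetric family `f`; if no two different centres of the component agree modulo the
common kernel, the centres and `0` form a subspace `W`, `V = W ⊕ C` and `f` is given by a
nondegenerate alternating form on `W`.
-/

set_option autoImplicit false
set_option linter.unusedVariables false
set_option linter.unusedSimpArgs false
set_option linter.unusedSectionVars false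

namespace Cfsg.Agent.H743.McL

open Module

variable {K V : Type*} [Field K] [AddCommGroup V] [Module K V] {H : Subgroup (V ≃ₗ[K] V)}

theorem bad_eq {u v l m : K} (hlm : l ≠ m) (h1 : u + l * v = 0) (h2 : u + m * v = 0) :
    u = 0 ∧ v = 0 := by
  have h3 : (l - m) * v = 0 := by linear_combination h1 - h2
  rcases mul_eq_zero.1 h3 with h | h
  · exact absurd (sub_eq_zero.1 h) hlm
  · subst h
    simp at h1
    exact ⟨h1, rfl⟩

/-- Avoiding two values in a field with at least three elements. -/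
theorem exists_avoid {c : K} (hc0 : c ≠ 0) (hc1 : c ≠ 1) {u v u' v' : K} (h : u ≠ 0 ∨ v ≠ 0)
    (h' : u' ≠ 0 ∨ v' ≠ 0) : ∃ l : K, u + l * v ≠ 0 ∧ u' + l * v' ≠ 0 := by
  have key : ∀ l m : K, l ≠ m → ¬ (u + l * v = 0 ∧ u + m * v = 0) := by
    rintro l m hlm ⟨h1, h2⟩
    obtain ⟨h3, h4⟩ := bad_eq hlm h1 h2
    rcases h with h | h
    · exact h h3
    · exact h h4
  have key' : ∀ l m : K, l ≠ m → ¬ (u' + l * v' = 0 ∧ u' + m * v' = 0) := by
    rintro l m hlm ⟨h1, h2⟩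
    obtain ⟨h3, h4⟩ := bad_eq hlm h1 h2
    rcases h' with h | h
    · exact h h3
    · exact h h4
  by_contra hcon
  push Not at hcon
  have d : ∀ l : K, u + l * v = 0 ∨ u' + l * v' = 0 := by
    intro l
    by_cases e : u + l * v = 0
    · exact Or.inl e
    · exact Or.inr (hcon l e)
  have n01 : (0 : K) ≠ 1 := zero_ne_one
  rcases d 0 with e0 | e0 <;> rcases d 1 with e1 | e1 <;> rcases d c with e2 | e2
  · exact key 0 1 n01 ⟨e0, e1⟩
  · exact key 0 1 n01 ⟨e0, e1⟩
  · exact key 0 c hc0.symm ⟨e0, e2⟩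
  · exact key' 1 c hc1.symm ⟨e1, e2⟩
  · exact key 1 c hc1.symm ⟨e1, e2⟩
  · exact key' 0 c hc0.symm ⟨e0, e2⟩
  · exact key' 0 1 n01 ⟨e0, e1⟩
  · exact key' 0 1 n01 ⟨e0, e1⟩

section FD
variable [FiniteDimensional K V]

/-- The standing hypotheses of the symplectic case. -/
structure SpH (hF : Full H) (a₀ : V) : Prop where
  ctr : Ctr H a₀
  one : finrank K (Phi hF a₀) = 1
  big : ∃ c : K, c ≠ 0 ∧ c ≠ 1

variable {hF : Full H} {a₀ : V}

theorem SpH.eq_smul (h : SpH hF a₀) {x : V} (hx : Cmp H a₀ x) {φ ψ : Dual K V} (h1 : Tv H x φ)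
    (h2 : φ ≠ 0) (h3 : Tv H x ψ) : ∃ μ : K, ψ = μ • φ := by
  have h4 : finrank K (Phi hF x) = 1 := by rw [← hx.finrank_eq hF, h.one]
  obtain ⟨μ, hμ⟩ := (finrank_eq_one_iff_of_nonzero' (⟨φ, h1⟩ : Phi hF x)
    (fun h0 => h2 (congrArg Subtype.val h0))).1 h4 ⟨ψ, h3⟩
  exact ⟨μ, (congrArg Subtype.val hμ).symm⟩

theorem SpH.np (h : SpH hF a₀) {x y : V} (hx : Cmp H a₀ x) {φ : Dual K V} (h1 : Tv H x φ)
    (h2 : φ ≠ 0) (hn : NP H x y) : φ y ≠ 0 := by
  obtain ⟨ψ, k1, k2⟩ := hn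
  obtain ⟨μ, rfl⟩ := h.eq_smul hx h1 h2 k1
  intro h0
  exact k2 (by simp [h0])

theorem SpH.symm (h : SpH hF a₀) {x y : V} (hx : Cmp H a₀ x) (hy : Cmp H a₀ y) {φ ψ : Dual K V}
    (h1 : Tv H x φ) (h2 : Tv H y ψ) (h3 : ψ ≠ 0) (h4 : φ y ≠ 0) : ψ x ≠ 0 :=
  h.np hy h2 h3 ((hx.symm.trans hy).np_symm hF ⟨φ, h1, h4⟩)

theorem ne_zero_of_apply {φ : Dual K V} {x : V} (h : φ x ≠ 0) : φ ≠ 0 := by
  rintro rfl
  exact h rfl

/-- Moving along a line. -/
theorem SpH.tv_line (h : SpH hF a₀) {x y : V} {ξ η : Dual K V} (h1 : Tv H x ξ) (h2 : Tv H y η)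
    (h3 : ξ y = - η x) (h4 : ξ y ≠ 0) (l : K) : Tv H (y + l • x) (η + l • ξ) := by
  have h5 := hF.conj_tv h1 h2 (l * (ξ y)⁻¹)
  rw [show l * (ξ y)⁻¹ * ξ y = l by field_simp] at h5
  have h6 : l * (ξ y)⁻¹ * η x = -l := by
    have : η x = - ξ y := by rw [h3, neg_neg]
    rw [this]
    field_simp
  rw [h6] at h5
  have h7 : η - (-l) • ξ = η + l • ξ := by module
  rwa [h7] at h5

theorem rel_of {x y : V} {ξ η : Dual K V} (h1 : Tv H x ξ) (h2 : Tv H y η)
    (h3 : ξ y = - η x) (h4 : ξ y ≠ 0) : Rel H x y :=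
  ⟨ξ, η, h1, h2, h4, fun h0 => h4 (by rw [h3, h0, neg_zero])⟩

/-- The triangle lemma. -/
theorem SpH.tri (h : SpH hF a₀) {x y z : V} {ξ η ζ : Dual K V} (hx : Cmp H a₀ x)
    (h1 : Tv H x ξ) (h2 : Tv H y η) (h3 : Tv H z ζ) (h4 : ξ y = - η x) (h5 : ξ y ≠ 0)
    (h6 : ξ z = - ζ x) (h7 : ξ z ≠ 0) : η z = - ζ y := by
  have hζx : ζ x ≠ 0 := fun h0 => h7 (by rw [h6, h0, neg_zero])
  have hxy := rel_of h1 h2 h4 h5
  have hxz := rel_of h1 h3 h6 h7
  set l := ζ y * (ζ x)⁻¹ with hl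
  have k1 := h.tv_line h1 h2 h4 h5 (-l)
  have k2 : Rel H x (y + (-l) • x) := hxy.line hF (-l)
  have k3 : ζ (y + (-l) • x) = 0 := by
    rw [map_add, map_smul, smul_eq_mul, hl]
    field_simp
    ring
  have k4 : (η + (-l) • ξ) z = 0 := by
    by_contra h0
    have hz : Cmp H a₀ z := hx.trans hxz.cmp
    have hw : Cmp H a₀ (y + (-l) • x) := hx.trans k2.cmp
    exact h.symm hw hz k1 h3 (ne_zero_of_apply hζx) h0 k3
  simp only [LinearMap.add_apply, LinearMap.smul_apply, smul_eq_mul] at k4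
  rw [h6, hl] at k4
  have : ζ y * (ζ x)⁻¹ * ζ x = ζ y := by field_simp
  linear_combination k4 + (-1) * this

theorem SpH.normalise (h : SpH hF a₀) {φ₀ : Dual K V} (h0 : Tv H a₀ φ₀) {x : V} (hx : Cmp H a₀ x)
    (h1 : φ₀ x ≠ 0) : ∃ ξ, Tv H x ξ ∧ ξ a₀ = - φ₀ x := by
  obtain ⟨ξ, k1, k2⟩ := hx.np_symm hF ⟨φ₀, h0, h1⟩
  refine ⟨(-(φ₀ x) * (ξ a₀)⁻¹) • ξ, hF _ _ _ k1, ?_⟩
  rw [LinearMap.smul_apply, smul_eq_mul]
  field_simp

/-- Normalised functionals, relative to `φ₀ ∈ Phi a₀`. -/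
def PP (H : Subgroup (V ≃ₗ[K] V)) (a₀ : V) (φ₀ : Dual K V) (c : V) (χ : Dual K V) : Prop :=
  Tv H c χ ∧ ∃ b β, Cmp H a₀ b ∧ Tv H b β ∧ φ₀ b = - β a₀ ∧ φ₀ b ≠ 0 ∧ β c = - χ b ∧ β c ≠ 0

theorem SpH.exists_PP (h : SpH hF a₀) {φ₀ : Dual K V} (h0 : Tv H a₀ φ₀) (h0' : φ₀ ≠ 0) {c : V}
    (hc : Cmp H a₀ c) : ∃ χ, PP H a₀ φ₀ c χ := by
  obtain ⟨b, h1, h2⟩ := h.ctr.exists_mid hF hc
  have k1 : φ₀ b ≠ 0 := h.np (Cmp.refl a₀) h0 h0' h1.np
  obtain ⟨β, k2, k3⟩ := h.normalise h0 h1.cmp k1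
  have k3' : β a₀ ≠ 0 := by rw [k3]; exact neg_ne_zero.2 k1
  have k4 : β c ≠ 0 := h.np h1.cmp k2 (ne_zero_of_apply k3') h2.np
  obtain ⟨χ, k5, k6⟩ := h2.symm.np
  refine ⟨(-(β c) * (χ b)⁻¹) • χ, hF _ _ _ k5, b, β, h1.cmp, k2, by rw [k3, neg_neg], k1, ?_, k4⟩
  rw [LinearMap.smul_apply, smul_eq_mul]
  field_simp

theorem SpH.PP_unique (h : SpH hF a₀) {φ₀ : Dual K V} (h0 : Tv H a₀ φ₀) {c : V} {χ : Dual K V}
    (hc : Cmp H a₀ c) (hχ : PP H a₀ φ₀ c χ) {b' : V} {β' : Dual K V} (hb' : Cmp H a₀ b')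
    (h1' : Tv H b' β') (h2' : φ₀ b' = - β' a₀) (h3' : φ₀ b' ≠ 0) : β' c = - χ b' := by
  obtain ⟨c₀, hc0, hc1⟩ := h.big
  obtain ⟨g1, b, β, hb, g2, g3, g4, g5, g6⟩ := hχ
  have hβa : β a₀ ≠ 0 := fun e => g4 (by rw [g3, e, neg_zero])
  have hβ'a : β' a₀ ≠ 0 := fun e => h3' (by rw [h2', e, neg_zero])
  have hχb : χ b ≠ 0 := fun e => g6 (by rw [g5, e, neg_zero])
  have k1 : φ₀ c = - χ a₀ := h.tri hb g2 h0 g1 (by rw [g3, neg_neg]) hβa g5 g6
  have k2 : β b' = - β' b := h.tri (Cmp.refl a₀) h0 g2 h1' g3 g4 h2' h3'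
  obtain ⟨l, m1, m2⟩ := exists_avoid hc0 hc1 (u := β' b) (v := β' a₀) (u' := χ b) (v' := χ a₀)
    (Or.inr hβ'a) (Or.inl hχb)
  have k3 := h.tv_line h0 g2 g3 g4 l
  have k4 : Cmp H a₀ (b + l • a₀) := ((rel_of h0 g2 g3 g4).line hF l).cmp
  have k5 : (β + l • φ₀) b' = - β' (b + l • a₀) := by
    simp only [LinearMap.add_apply, LinearMap.smul_apply, smul_eq_mul, map_add, map_smul]
    rw [k2, h2']
    ring
  have k6 : (β + l • φ₀) c = - χ (b + l • a₀) := by
    simp only [LinearMap.add_apply, LinearMap.smul_apply, smul_eq_mul, map_add, map_smul]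
    rw [g5, k1]
    ring
  refine h.tri k4 k3 h1' g1 k5 ?_ k6 ?_
  · rw [k5, map_add, map_smul, smul_eq_mul]
    exact neg_ne_zero.2 m1
  · rw [k6, map_add, map_smul, smul_eq_mul]
    exact neg_ne_zero.2 m2

/-- A skew-symmetric normalisation of the functionals. -/
theorem SpH.exists_form (h : SpH hF a₀) : ∃ f : V → Dual K V,
    (∀ x, Cmp H a₀ x → Tv H x (f x) ∧ f x ≠ 0) ∧
    ∀ x y, Cmp H a₀ x → Cmp H a₀ y → f x y = - f y x := by
  obtain ⟨c₀, hc0, hc1⟩ := h.big
  obtain ⟨b₀, hb⟩ := id h.ctr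
  obtain ⟨φ₀, h0, h0b⟩ := hb.np
  have h0' := ne_zero_of_apply h0b
  have hP : ∀ c, ∃ χ, Cmp H a₀ c → PP H a₀ φ₀ c χ := by
    intro c
    by_cases hc : Cmp H a₀ c
    · obtain ⟨χ, hχ⟩ := h.exists_PP h0 h0' hc
      exact ⟨χ, fun _ => hχ⟩
    · exact ⟨0, fun h => absurd h hc⟩
  choose f hf using hP
  have hf1 : ∀ x, Cmp H a₀ x → Tv H x (f x) := fun x hx => (hf x hx).1
  have hf2 : ∀ x, Cmp H a₀ x → f x ≠ 0 := by
    intro x hx
    obtain ⟨_, b, β, _, _, _, _, g5, g6⟩ := hf x hx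
    exact ne_zero_of_apply (x := b) fun e => g6 (by rw [g5, e, neg_zero])
  refine ⟨f, fun x hx => ⟨hf1 x hx, hf2 x hx⟩, ?_⟩
  have main : ∀ b c, Cmp H a₀ b → Cmp H a₀ c → f b c ≠ 0 → f b c = - f c b := by
    intro b c hb hc hbc
    have hcb : f c b ≠ 0 := h.symm hb hc (hf1 b hb) (hf1 c hc) (hf2 c hc) hbc
    obtain ⟨x, h1, h2⟩ := h.ctr.exists_mid hF hb
    have k1 : φ₀ x ≠ 0 := h.np (Cmp.refl a₀) h0 h0' h1.np
    obtain ⟨l, m1, m2⟩ := exists_avoid hc0 hc1 (u := φ₀ x) (v := φ₀ b) (u' := f c x) (v' := f c b)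
      (Or.inl k1) (Or.inr hcb)
    have k2 : Rel H b (x + l • b) := h2.symm.line hF l
    have k3 : Cmp H a₀ (x + l • b) := hb.trans k2.cmp
    have k4 : φ₀ (x + l • b) ≠ 0 := by rwa [map_add, map_smul, smul_eq_mul]
    obtain ⟨ξ, k5, k6⟩ := h.normalise h0 k3 k4
    have k6' : φ₀ (x + l • b) = - ξ a₀ := by rw [k6, neg_neg]
    have k7 := h.PP_unique h0 hb (hf b hb) k3 k5 k6' k4
    have k8 := h.PP_unique h0 hc (hf c hc) k3 k5 k6' k4
    refine h.tri k3 k5 (hf1 b hb) (hf1 c hc) k7 ?_ k8 ?_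
    · rw [k7]
      refine neg_ne_zero.2 ?_
      rw [map_add, map_smul, (hf1 b hb).1, smul_zero, add_zero]
      exact h.np hb (hf1 b hb) (hf2 b hb) h2.symm.np
    · rw [k8]
      refine neg_ne_zero.2 ?_
      rwa [map_add, map_smul, smul_eq_mul]
  intro b c hb hc
  by_cases e : f b c = 0
  · by_cases e' : f c b = 0
    · rw [e, e', neg_zero]
    · exact absurd e (h.symm hc hb (hf1 c hc) (hf1 b hb) (hf2 b hb) e')
  · exact main b c hb hc e

/-- A skew-symmetric normalisation. -/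
structure Frm (hF : Full H) (a₀ : V) (f : V → Dual K V) : Prop where
  tv : ∀ x, Cmp H a₀ x → Tv H x (f x)
  ne : ∀ x, Cmp H a₀ x → f x ≠ 0
  skew : ∀ x y, Cmp H a₀ x → Cmp H a₀ y → f x y = - f y x

variable {f : V → Dual K V}

theorem SpH.add_line (h : SpH hF a₀) (hf : Frm hF a₀ f) {x y : V} (hx : Cmp H a₀ x)
    (hy : Cmp H a₀ y) (hxy : f x y ≠ 0) (l : K) :
    Cmp H a₀ (y + l • x) ∧ f (y + l • x) = f y + l • f x := by
  have h1 := rel_of (hf.tv x hx) (hf.tv y hy) (hf.skew x y hx hy) hxy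
  have h2 : Cmp H a₀ (y + l • x) := hx.trans (h1.line hF l).cmp
  refine ⟨h2, ?_⟩
  have h3 := h.tv_line (hf.tv x hx) (hf.tv y hy) (hf.skew x y hx hy) hxy l
  obtain ⟨μ, hμ⟩ := h.eq_smul h2 (hf.tv _ h2) (hf.ne _ h2) h3
  have h4 : (f y + l • f x) x = (μ • f (y + l • x)) x := by rw [hμ]
  simp only [LinearMap.add_apply, LinearMap.smul_apply, smul_eq_mul, (hf.tv x hx).1, mul_zero,
    add_zero] at h4
  rw [hf.skew _ x h2 hx, map_add, map_smul, (hf.tv x hx).1, smul_zero, add_zero,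
    ← hf.skew y x hy hx] at h4
  have h5 : f y x ≠ 0 := fun e => hxy (by rw [hf.skew x y hx hy, e, neg_zero])
  have h6 : μ = 1 := by
    have : (μ - 1) * f y x = 0 := by linear_combination -h4
    rcases mul_eq_zero.1 this with h7 | h7
    · exact sub_eq_zero.1 h7
    · exact absurd h7 h5
  rw [hμ, h6, one_smul]

theorem SpH.f_smul (h : SpH hF a₀) (hf : Frm hF a₀ f) {x : V} (hx : Cmp H a₀ x) {c : K}
    (hc : c ≠ 0) : f (c • x) = c • f x := by
  have h1 : Cmp H a₀ (c • x) := hx.trans ((h.ctr.of_cmp hx).cmp_smul hF hc)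
  obtain ⟨μ, hμ⟩ := h.eq_smul hx (hf.tv x hx) (hf.ne x hx) (by
    have := Tv.of_smul_left hc (hf.tv _ h1)
    have h2 := hF _ _ c⁻¹ this
    have h3 : c⁻¹ • c • f (c • x) = f (c • x) := by rw [smul_smul, inv_mul_cancel₀ hc, one_smul]
    rwa [h3] at h2)
  obtain ⟨b, hb⟩ := h.ctr.of_cmp hx
  have hb' : Cmp H a₀ b := hx.trans hb.cmp
  have h4 : f x b ≠ 0 := h.np hx (hf.tv x hx) (hf.ne x hx) hb.np
  have h5 : f (c • x) b = c * f x b := by
    rw [hf.skew _ b h1 hb', map_smul, smul_eq_mul, hf.skew x b hx hb']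
    ring
  rw [hμ, LinearMap.smul_apply, smul_eq_mul] at h5
  rw [hμ, mul_right_cancel₀ h4 h5]

/-- Sums of orthogonal centres not in the common kernel. -/
theorem SpH.add_perp (h : SpH hF a₀) (hf : Frm hF a₀ f) {a b : V} (ha : Cmp H a₀ a)
    (hb : Cmp H a₀ b) (hab : f a b = 0) {c' : V} (hc' : Cmp H a₀ c') (hne : f c' (a + b) ≠ 0) :
    Cmp H a₀ (a + b) ∧ f (a + b) = f a + f b := by
  obtain ⟨c₀, hc0, hc1⟩ := h.big
  have hba : f b a = 0 := by rw [hf.skew b a hb ha, hab, neg_zero]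
  -- a good centre `c`
  have good : ∃ c, Cmp H a₀ c ∧ f c a ≠ 0 ∧ f c b ≠ 0 ∧ f c (a + b) ≠ 0 := by
    obtain ⟨c₁, h1, h2⟩ := (h.ctr.of_cmp ha).exists_mid hF (ha.symm.trans hb)
    have hc₁ : Cmp H a₀ c₁ := ha.trans h1.cmp
    have k1 : f c₁ a ≠ 0 := h.np hc₁ (hf.tv _ hc₁) (hf.ne _ hc₁) h1.symm.np
    have k2 : f c₁ b ≠ 0 := h.np hc₁ (hf.tv _ hc₁) (hf.ne _ hc₁) h2.np
    by_cases e : f c₁ (a + b) = 0
    swap
    · exact ⟨c₁, hc₁, k1, k2, e⟩
    by_cases ea : f c' a = 0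
    · have eb : f c' b ≠ 0 := by
        intro eb
        exact hne (by rw [map_add, ea, eb, add_zero])
      have ebc : f b c' ≠ 0 := by rw [hf.skew b c' hb hc']; exact neg_ne_zero.2 eb
      -- modify `c'` by `b`
      obtain ⟨ν, m1, -⟩ := exists_avoid hc0 hc1 (u := f c₁ c') (v := f c₁ b) (u' := 1) (v' := 0)
        (Or.inr k2) (Or.inl one_ne_zero)
      obtain ⟨j1, j2⟩ := h.add_line hf hb hc' ebc ν
      have j3 : f c₁ (c' + ν • b) ≠ 0 := by rwa [map_add, map_smul, smul_eq_mul]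
      have j4 : f (c' + ν • b) a = 0 := by
        rw [j2, LinearMap.add_apply, LinearMap.smul_apply, ea, hba, smul_zero, add_zero]
      have j5 : f (c' + ν • b) b = f c' b := by
        rw [j2, LinearMap.add_apply, LinearMap.smul_apply, (hf.tv b hb).1, smul_zero, add_zero]
      have j6 : f (c' + ν • b) c₁ ≠ 0 := by
        rw [hf.skew _ _ j1 hc₁]; exact neg_ne_zero.2 j3
      obtain ⟨l, m2, m3⟩ := exists_avoid hc0 hc1 (u := 0) (v := 1) (u' := f c₁ b)
        (v' := f c' b) (Or.inr one_ne_zero) (Or.inl k2)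
      obtain ⟨j7, j8⟩ := h.add_line hf j1 hc₁ j6 l
      have l0 : l ≠ 0 := by simpa using m2
      have j9 : f (c₁ + l • (c' + ν • b)) a = f c₁ a := by
        rw [j8, LinearMap.add_apply, LinearMap.smul_apply, j4, smul_zero, add_zero]
      have j10 : f (c₁ + l • (c' + ν • b)) b = f c₁ b + l * f c' b := by
        rw [j8, LinearMap.add_apply, LinearMap.smul_apply, j5, smul_eq_mul]
      refine ⟨_, j7, by rwa [j9], by rwa [j10], ?_⟩
      rw [map_add, j9, j10]
      rw [map_add] at e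
      rw [← add_assoc, e, zero_add]
      exact mul_ne_zero l0 eb
    by_cases eb : f c' b = 0
    · have eac : f a c' ≠ 0 := by rw [hf.skew a c' ha hc']; exact neg_ne_zero.2 ea
      obtain ⟨ν, m1, -⟩ := exists_avoid hc0 hc1 (u := f c₁ c') (v := f c₁ a) (u' := 1) (v' := 0)
        (Or.inr k1) (Or.inl one_ne_zero)
      obtain ⟨j1, j2⟩ := h.add_line hf ha hc' eac ν
      have j3 : f c₁ (c' + ν • a) ≠ 0 := by rwa [map_add, map_smul, smul_eq_mul]
      have j4 : f (c' + ν • a) b = 0 := by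
        rw [j2, LinearMap.add_apply, LinearMap.smul_apply, eb, hab, smul_zero, add_zero]
      have j5 : f (c' + ν • a) a = f c' a := by
        rw [j2, LinearMap.add_apply, LinearMap.smul_apply, (hf.tv a ha).1, smul_zero, add_zero]
      have j6 : f (c' + ν • a) c₁ ≠ 0 := by
        rw [hf.skew _ _ j1 hc₁]; exact neg_ne_zero.2 j3
      obtain ⟨l, m2, m3⟩ := exists_avoid hc0 hc1 (u := 0) (v := 1) (u' := f c₁ a)
        (v' := f c' a) (Or.inr one_ne_zero) (Or.inl k1)
      obtain ⟨j7, j8⟩ := h.add_line hf j1 hc₁ j6 l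
      have l0 : l ≠ 0 := by simpa using m2
      have j9 : f (c₁ + l • (c' + ν • a)) b = f c₁ b := by
        rw [j8, LinearMap.add_apply, LinearMap.smul_apply, j4, smul_zero, add_zero]
      have j10 : f (c₁ + l • (c' + ν • a)) a = f c₁ a + l * f c' a := by
        rw [j8, LinearMap.add_apply, LinearMap.smul_apply, j5, smul_eq_mul]
      refine ⟨_, j7, by rwa [j10], by rwa [j9], ?_⟩
      rw [map_add, j9, j10]
      rw [map_add] at e
      rw [show f c₁ a + l * f c' a + f c₁ b = (f c₁ a + f c₁ b) + l * f c' a by ring, e, zero_add]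
      exact mul_ne_zero l0 ea
    exact ⟨c', hc', ea, eb, hne⟩
  obtain ⟨c, hc, g1, g2, g3⟩ := good
  -- `a + c`
  have k1 : f c a ≠ 0 := g1
  obtain ⟨p1, p2⟩ := h.add_line hf hc ha g1 1
  rw [one_smul, one_smul] at p2
  rw [one_smul] at p1
  -- `b + (a + c)`
  have q0 : f (a + c) b ≠ 0 := by
    rw [p2, LinearMap.add_apply, hab, zero_add]
    exact g2
  obtain ⟨q1, q2⟩ := h.add_line hf p1 hb q0 1
  rw [one_smul, one_smul] at q2
  rw [one_smul] at q1
  have r0 : f c (b + (a + c)) ≠ 0 := by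
    have : f c (b + (a + c)) = f c (a + b) := by
      simp only [map_add, (hf.tv c hc).1]
      ring
    rwa [this]
  obtain ⟨r1, r2⟩ := h.add_line hf hc q1 r0 (-1)
  have e1 : b + (a + c) + (-1 : K) • c = a + b := by module
  rw [e1] at r1 r2
  refine ⟨r1, ?_⟩
  rw [r2, q2, p2]
  module

/-- Two different centres of the component are different modulo the common kernel. -/
def SepC (H : Subgroup (V ≃ₗ[K] V)) (a₀ : V) : Prop :=
  ∀ x y, Cmp H a₀ x → Cmp H a₀ y → y - x ∈ CC H a₀ → x = y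

theorem SpH.add (h : SpH hF a₀) (hf : Frm hF a₀ f) (hE : SepC H a₀) {a b : V} (ha : Cmp H a₀ a)
    (hb : Cmp H a₀ b) (h0 : a + b ≠ 0) : Cmp H a₀ (a + b) ∧ f (a + b) = f a + f b := by
  by_cases hab : f a b = 0
  · have h1 : a + b ∉ CC H a₀ := by
      intro hmem
      have h2 : Cmp H a₀ ((-1 : K) • b) :=
        hb.trans ((h.ctr.of_cmp hb).cmp_smul hF (neg_ne_zero.2 one_ne_zero))
      have h3 := hE _ _ h2 ha (by
        have : a - (-1 : K) • b = a + b := by module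
        rwa [this])
      apply h0
      rw [← h3]
      module
    rw [mem_CC] at h1
    push Not at h1
    obtain ⟨c, φ, h2, h3, h4⟩ := h1
    refine h.add_perp hf ha hb hab h2 ?_
    exact h.np h2 (hf.tv c h2) (hf.ne c h2) ⟨φ, h3, h4⟩
  · have h1 : f b a ≠ 0 := by rw [hf.skew b a hb ha]; exact neg_ne_zero.2 hab
    obtain ⟨p1, p2⟩ := h.add_line hf hb ha h1 1
    rw [one_smul, one_smul] at p2
    rw [one_smul] at p1
    exact ⟨p1, p2⟩

theorem SpH.addC (h : SpH hF a₀) (hE : SepC H a₀) : AddC H a₀ := by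
  obtain ⟨f, h1, h2⟩ := h.exists_form
  intro x y hx hy hxy
  exact (h.add ⟨fun x hx => (h1 x hx).1, fun x hx => (h1 x hx).2, h2⟩ hE hx hy hxy).1

/-- The symplectic case. -/
theorem SpH.main (h : SpH hF a₀) (hN : NI H) (hE : SepC H a₀) :
    ∃ F : WW hF h.ctr (h.addC hE) →ₗ[K] Dual K V,
      (∀ x : WW hF h.ctr (h.addC hE), Tv H (x : V) (F x)) ∧
      (∀ x : WW hF h.ctr (h.addC hE), x ≠ 0 → F x ≠ 0) ∧
      (∀ x y : WW hF h.ctr (h.addC hE), F x (y : V) = - F y (x : V)) ∧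
      (∀ x : WW hF h.ctr (h.addC hE), x ≠ 0 → ∀ φ, Tv H (x : V) φ → ∃ c : K, φ = c • F x) := by
  classical
  obtain ⟨f, h1, h2⟩ := h.exists_form
  have hf : Frm hF a₀ f := ⟨fun x hx => (h1 x hx).1, fun x hx => (h1 x hx).2, h2⟩
  let W := WW hF h.ctr (h.addC hE)
  have hW : ∀ x : W, x ≠ 0 → Cmp H a₀ (x : V) := by
    intro x hx
    rcases x.2 with h0 | h0
    · exact absurd (Subtype.ext h0) hx
    · exact h0
  let g : W → Dual K V := fun x => if x = 0 then 0 else f x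
  have g0 : g 0 = 0 := if_pos rfl
  have gne : ∀ x : W, x ≠ 0 → g x = f x := fun x hx => if_neg hx
  have gadd : ∀ x y : W, g (x + y) = g x + g y := by
    intro x y
    by_cases hx : x = 0
    · rw [hx, zero_add, g0, zero_add]
    by_cases hy : y = 0
    · rw [hy, add_zero, g0, add_zero]
    by_cases hxy : x + y = 0
    · rw [hxy, g0, gne x hx, gne y hy]
      have : (y : V) = (-1 : K) • (x : V) := by
        have e1 : y = -x := (neg_eq_of_add_eq_zero_right hxy).symm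
        rw [e1]
        simp
      rw [this, h.f_smul hf (hW x hx) (neg_ne_zero.2 one_ne_zero)]
      module
    · rw [gne _ hxy, gne x hx, gne y hy]
      exact (h.add hf hE (hW x hx) (hW y hy) (fun e => hxy (Subtype.ext e))).2
  have gsmul : ∀ (c : K) (x : W), g (c • x) = c • g x := by
    intro c x
    by_cases hx : x = 0
    · rw [hx, smul_zero, g0, smul_zero]
    by_cases hc : c = 0
    · rw [hc, zero_smul, g0, zero_smul]
    rw [gne _ (smul_ne_zero hc hx), gne x hx]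
    exact h.f_smul hf (hW x hx) hc
  refine ⟨⟨⟨g, gadd⟩, gsmul⟩, ?_, ?_, ?_, ?_⟩
  · intro x
    change Tv H (x : V) (g x)
    by_cases hx : x = 0
    · rw [hx]
      exact tv_zero_left _
    · rw [gne x hx]
      exact hf.tv _ (hW x hx)
  · intro x hx
    change g x ≠ 0
    rw [gne x hx]
    exact hf.ne _ (hW x hx)
  · intro x y
    change g x y = - g y x
    by_cases hx : x = 0
    · rw [hx, g0]
      simp
    by_cases hy : y = 0
    · rw [hy, g0]
      simp
    rw [gne x hx, gne y hy]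
    exact hf.skew _ _ (hW x hx) (hW y hy)
  · intro x hx φ hφ
    obtain ⟨μ, hμ⟩ := h.eq_smul (hW x hx) (hf.tv _ (hW x hx)) (hf.ne _ (hW x hx)) hφ
    refine ⟨μ, ?_⟩
    change φ = μ • g x
    rw [gne x hx, hμ]

theorem SpH.isCompl (h : SpH hF a₀) (hN : NI H) (hE : SepC H a₀) :
    IsCompl (WW hF h.ctr (h.addC hE)) (CC H a₀) := by
  refine ⟨disjoint_WW_CC hF h.ctr _, ?_⟩
  rw [codisjoint_iff, Submodule.eq_top_iff']
  intro v
  obtain ⟨F, h1, h2, h3, h4⟩ := h.main hN hE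
  let W := WW hF h.ctr (h.addC hE)
  let r : W →ₗ[K] (W →ₗ[K] K) := W.subtype.dualMap ∘ₗ F
  have hr : Function.Injective r := by
    rw [injective_iff_map_eq_zero]
    intro x hx
    by_contra h0
    have hc : Cmp H a₀ (x : V) := by
      rcases x.2 with h5 | h5
      · exact absurd (Subtype.ext h5) h0
      · exact h5
    refine h2 x h0 (eq_zero_of_WW hF hN h.ctr (h.addC hE) hc (h1 x) fun w hw => ?_)
    exact LinearMap.congr_fun hx (⟨w, hw⟩ : W)
  obtain ⟨w, hw⟩ := exists_vec (K := K) (F := W) (W := W) r hr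
    ((Module.Dual.eval K V v) ∘ₗ F)
  have hwv : ∀ x : W, F x (w : V) = F x v := fun x => hw x
  rw [show v = (w : V) + (v - w) by abel]
  refine Submodule.add_mem_sup w.2 ?_
  intro a φ ha hφ
  obtain ⟨c, rfl⟩ := h4 ⟨a, Or.inr ha⟩ (fun e => (h.ctr.of_cmp ha).ne_zero (congrArg Subtype.val e)) φ hφ
  rw [LinearMap.smul_apply, map_sub, hwv, sub_self, smul_zero]

end FD

end Cfsg.Agent.H743.McL
end

-- part: H743/TvComp
section
/-!
# The groups generated by the components of a transvection group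

`Wc H a`: the span of the component of `a`; `Kc H a`: the group generated by the transvections of `H`
with centres in this component.  `comp_main`: `V = Wc ⊕ CC`, and `Kc` induces `SL(Wc)` or `Sp(Wc)` on `Wc`.
-/

set_option autoImplicit false
set_option linter.unusedVariables false
set_option linter.unusedSimpArgs false
set_option linter.unusedSectionVars false

namespace Cfsg.Agent.H743.McL

open Module

variable {K V : Type*} [Field K] [AddCommGroup V] [Module K V] {H : Subgroup (V ≃ₗ[K] V)}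

/-- The span of a component. -/
def Wc (H : Subgroup (V ≃ₗ[K] V)) (a : V) : Submodule K V := Submodule.span K {x | Cmp H a x}

/-- The group generated by the transvections with centres in a component. -/
def Kc (H : Subgroup (V ≃ₗ[K] V)) (a : V) : Subgroup (V ≃ₗ[K] V) :=
  Subgroup.closure {t | t ∈ H ∧ ∃ x φ, Cmp H a x ∧ (φ : Dual K V) x = 0 ∧ ∀ y, t y = y + φ y • x}

theorem Kc_le (a : V) : Kc H a ≤ H := by
  rw [Kc, Subgroup.closure_le]
  rintro t ⟨h, -⟩
  exact h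

theorem Kc_fix {a : V} {h : V ≃ₗ[K] V} (hh : h ∈ Kc H a) {y : V} (hy : y ∈ CC H a) : h y = y := by
  induction hh using Subgroup.closure_induction with
  | mem t ht =>
    obtain ⟨h1, x, φ, h2, h3, h4⟩ := ht
    rw [h4, hy x φ h2 ⟨h3, t, h1, h4⟩, zero_smul, add_zero]
  | one => rfl
  | mul g k _ _ ihg ihk =>
    change g (k y) = y
    rw [ihk, ihg]
  | inv g _ ih =>
    change g.symm y = y
    rw [LinearEquiv.symm_apply_eq, ih]

theorem Kc_sub_mem {a : V} {h : V ≃ₗ[K] V} (hh : h ∈ Kc H a) (y : V) : h y - y ∈ Wc H a := by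
  induction hh using Subgroup.closure_induction generalizing y with
  | mem t ht =>
    obtain ⟨h1, x, φ, h2, h3, h4⟩ := ht
    rw [h4, add_sub_cancel_left]
    exact Submodule.smul_mem _ _ (Submodule.subset_span h2)
  | one =>
    change y - y ∈ _
    rw [sub_self]
    exact Submodule.zero_mem _
  | mul g k _ _ ihg ihk =>
    change g (k y) - y ∈ _
    rw [show g (k y) - y = (g (k y) - k y) + (k y - y) by abel]
    exact Submodule.add_mem _ (ihg _) (ihk _)
  | inv g _ ih =>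
    change g.symm y - y ∈ _
    have := ih (g.symm y)
    rw [LinearEquiv.apply_symm_apply] at this
    rw [show g.symm y - y = -(y - g.symm y) by abel]
    exact Submodule.neg_mem _ this

theorem WW_eq (hF : Full H) {a : V} (ha : Ctr H a) (hA : AddC H a) : WW hF ha hA = Wc H a := by
  apply le_antisymm
  · rintro x (rfl | hx)
    · exact Submodule.zero_mem _
    · exact Submodule.subset_span hx
  · rw [Wc, Submodule.span_le]
    intro x hx
    exact Or.inr hx

/-- Transfer of generators under a relation compatible with the group operations. -/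
theorem restrict_of_closure {W : Submodule K V} {X : Set (V ≃ₗ[K] V)} (Y : Subgroup (W ≃ₗ[K] W))
    (h : ∀ x ∈ X, ∃ y ∈ Y, ∀ w : W, ((y w : W) : V) = x w) {g : V ≃ₗ[K] V}
    (hg : g ∈ Subgroup.closure X) : ∃ y ∈ Y, ∀ w : W, ((y w : W) : V) = g w := by
  induction hg using Subgroup.closure_induction with
  | mem x hx => exact h x hx
  | one => exact ⟨1, Y.one_mem, fun w => rfl⟩
  | mul g k _ _ ihg ihk =>
    obtain ⟨y, hy, h1⟩ := ihg
    obtain ⟨z, hz, h2⟩ := ihk
    refine ⟨y * z, Y.mul_mem hy hz, fun w => ?_⟩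
    change ((y (z w) : W) : V) = g (k w)
    rw [h1, h2]
  | inv g _ ih =>
    obtain ⟨y, hy, h1⟩ := ih
    refine ⟨y⁻¹, Y.inv_mem hy, fun w => ?_⟩
    change ((y.symm w : W) : V) = g.symm w
    rw [LinearEquiv.eq_symm_apply, ← h1, LinearEquiv.apply_symm_apply]

/-- The elements of `GL(W)` induced by elements of a subgroup of `GL(V)` form a subgroup. -/
def Ind (W : Submodule K V) (X : Subgroup (V ≃ₗ[K] V)) : Subgroup (W ≃ₗ[K] W) where
  carrier := {f | ∃ h ∈ X, ∀ w : W, ((f w : W) : V) = h w}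
  one_mem' := ⟨1, X.one_mem, fun w => rfl⟩
  mul_mem' := by
    rintro f g ⟨h, hh, h1⟩ ⟨k, hk, h2⟩
    refine ⟨h * k, X.mul_mem hh hk, fun w => ?_⟩
    change ((f (g w) : W) : V) = h (k w)
    rw [h1, h2]
  inv_mem' := by
    rintro f ⟨h, hh, h1⟩
    refine ⟨h⁻¹, X.inv_mem hh, fun w => ?_⟩
    change ((f.symm w : W) : V) = h.symm w
    rw [LinearEquiv.eq_symm_apply, ← h1, LinearEquiv.apply_symm_apply]

theorem mem_Ind {W : Submodule K V} {X : Subgroup (V ≃ₗ[K] V)} {f : W ≃ₗ[K] W} :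
    f ∈ Ind W X ↔ ∃ h ∈ X, ∀ w : W, ((f w : W) : V) = h w := Iff.rfl

/-- The group of elements of determinant one. -/
def detOne (K W : Type*) [Field K] [AddCommGroup W] [Module K W] : Subgroup (W ≃ₗ[K] W) where
  carrier := {f | LinearMap.det (f : W →ₗ[K] W) = 1}
  one_mem' := LinearMap.det_id
  mul_mem' := by
    intro f g hf hg
    change LinearMap.det ((f : W →ₗ[K] W) ∘ₗ (g : W →ₗ[K] W)) = 1
    rw [LinearMap.det_comp]
    rw [show LinearMap.det (f : W →ₗ[K] W) = 1 from hf, show LinearMap.det (g : W →ₗ[K] W) = 1 from hg,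
      one_mul]
  inv_mem' := by
    intro f hf
    have h1 : LinearMap.det ((f⁻¹ : W ≃ₗ[K] W) : W →ₗ[K] W) * LinearMap.det (f : W →ₗ[K] W) = 1 := by
      rw [← LinearMap.det_comp]
      have : ((f⁻¹ : W ≃ₗ[K] W) : W →ₗ[K] W) ∘ₗ (f : W →ₗ[K] W) = LinearMap.id := by
        ext x
        exact f.symm_apply_apply x
      rw [this, LinearMap.det_id]
    rw [show LinearMap.det (f : W →ₗ[K] W) = 1 from hf, mul_one] at h1
    exact h1

/-- The isometries of a form. -/
def isoG {W : Type*} [AddCommGroup W] [Module K W] (B : LinearMap.BilinForm K W) :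
    Subgroup (W ≃ₗ[K] W) where
  carrier := {f | ∀ x y, B (f x) (f y) = B x y}
  one_mem' := fun _ _ => rfl
  mul_mem' := by
    intro f g hf hg x y
    change B (f (g x)) (f (g y)) = _
    rw [hf, hg]
  inv_mem' := by
    intro f hf x y
    change B (f.symm x) (f.symm y) = _
    rw [← hf, LinearEquiv.apply_symm_apply, LinearEquiv.apply_symm_apply]

section FD
variable [FiniteDimensional K V]

/-- The linear case on the level of groups. -/
theorem sl_group (hF : Full H) (hN : NI H) {a : V} (ha : Ctr H a) (hm : 2 ≤ finrank K (Phi hF a)) :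
    IsCompl (Wc H a) (CC H a) ∧
    (∀ h ∈ Kc H a, ∃ f ∈ detOne K (Wc H a), ∀ w : Wc H a, ((f w : Wc H a) : V) = h w) ∧
    (∀ f : Wc H a ≃ₗ[K] Wc H a, LinearMap.det (f : Wc H a →ₗ[K] Wc H a) = 1 → f ∈ Ind (Wc H a) (Kc H a)) := by
  have hW := WW_eq hF ha (addC_of_two_le hF hN ha hm)
  have hcompl := sl_isCompl hF hN ha hm
  have hex : ∀ (x : Wc H a) (g : Dual K (Wc H a)), g x = 0 →
      ∃ φ : Dual K V, Tv H (x : V) φ ∧ ∀ w : Wc H a, φ (w : V) = g w := by
    rw [← hW]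
    intro x g hg
    rcases x.2 with h0 | h0
    · have hx : x = 0 := Subtype.ext h0
      subst hx
      -- any extension
      obtain ⟨φ, hφ⟩ := LinearMap.exists_extend g
      exact ⟨φ, tv_zero_left φ, fun w => LinearMap.congr_fun hφ w⟩
    · exact sl_exists hF hN ha hm h0 g hg
  rw [hW] at hcompl
  have hcmp : ∀ x : Wc H a, x ≠ 0 → Cmp H a (x : V) := by
    rw [← hW]
    intro x hx
    rcases x.2 with h0 | h0
    · exact absurd (Subtype.ext h0) hx
    · exact h0
  refine ⟨hcompl, ?_, ?_⟩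
  · intro h hh
    refine restrict_of_closure (detOne K (Wc H a)) ?_ hh
    rintro t ⟨h1, x, φ, h2, h3, h4⟩
    have hx : x ∈ Wc H a := Submodule.subset_span h2
    let φ' : Dual K (Wc H a) := φ.domRestrict (Wc H a)
    have h5 : φ' ⟨x, hx⟩ = 0 := h3
    refine ⟨LinearEquiv.transvection h5, ?_, ?_⟩
    · change LinearMap.det ((LinearEquiv.transvection h5 : Wc H a ≃ₗ[K] Wc H a) : Wc H a →ₗ[K] Wc H a) = 1
      rw [← LinearEquiv.coe_det, LinearEquiv.transvection.det_eq_one h5, Units.val_one]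
    · intro w
      rw [LinearEquiv.transvection.apply, h4]
      rfl
  · intro f hf
    obtain ⟨b, hb⟩ := id ha
    have h2 : 2 ≤ finrank K (Wc H a) := by
      by_contra hlt
      have ha' : a ∈ Wc H a := Submodule.subset_span (Cmp.refl a)
      have hb' : b ∈ Wc H a := Submodule.subset_span hb.cmp
      have h3 : finrank K (Wc H a) ≤ 1 := by omega
      rw [finrank_le_one_iff] at h3
      obtain ⟨v, hv⟩ := h3
      obtain ⟨c, hc⟩ := hv ⟨a, ha'⟩
      obtain ⟨d, hd⟩ := hv ⟨b, hb'⟩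
      obtain ⟨φ, ψ, k1, k2, k3, k4⟩ := hb
      have hc' : c • (v : V) = a := congrArg Subtype.val hc
      have hd' : d • (v : V) = b := congrArg Subtype.val hd
      have hc0 : c ≠ 0 := by
        rintro rfl
        rw [zero_smul] at hc'
        exact ha.ne_zero hc'.symm
      have h5 : φ a = 0 := k1.1
      rw [← hc', map_smul, smul_eq_mul] at h5
      have h6 : φ (v : V) = 0 := (mul_eq_zero.1 h5).resolve_left hc0
      apply k3
      rw [← hd', map_smul, h6, smul_zero]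
    refine mem_of_det_eq_one h2 (Ind (Wc H a) (Kc H a)) ?_ f hf
    intro x g hg
    obtain ⟨φ, k1, k2⟩ := hex x g hg
    by_cases hx : x = 0
    · refine ⟨1, Subgroup.one_mem _, fun w => ?_⟩
      rw [hx, smul_zero, add_zero]
      rfl
    · refine ⟨LinearEquiv.transvection hg, ?_, fun w => LinearEquiv.transvection.apply hg w⟩
      obtain ⟨k3, t, k4, k5⟩ := k1
      refine ⟨t, Subgroup.subset_closure ⟨k4, x, φ, hcmp x hx, k3, k5⟩, fun w => ?_⟩
      rw [LinearEquiv.transvection.apply, k5, k2]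
      rfl

/-- The symplectic case on the level of groups. -/
theorem sp_group {hF : Full H} (hN : NI H) {a : V} (ha : SpH hF a) (hE : SepC H a) :
    IsCompl (Wc H a) (CC H a) ∧
    ∃ B : LinearMap.BilinForm K (Wc H a), B.IsAlt ∧ (∀ x, (∀ y, B x y = 0) → x = 0) ∧
    (∀ h ∈ Kc H a, ∃ f ∈ isoG B, ∀ w : Wc H a, ((f w : Wc H a) : V) = h w) ∧
    (∀ f : Wc H a ≃ₗ[K] Wc H a, (∀ x y, B (f x) (f y) = B x y) → f ∈ Ind (Wc H a) (Kc H a)) := by
  have hW := WW_eq hF ha.ctr (ha.addC hE)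
  have hcompl := ha.isCompl hN hE
  have hmain := ha.main hN hE
  rw [hW] at hcompl hmain
  have hcmp : ∀ x : Wc H a, x ≠ 0 → Cmp H a (x : V) := by
    rw [← hW]
    intro x hx
    rcases x.2 with h0 | h0
    · exact absurd (Subtype.ext h0) hx
    · exact h0
  obtain ⟨F, h1, h2, h3, h4⟩ := hmain
  let B : LinearMap.BilinForm K (Wc H a) := (Wc H a).subtype.dualMap ∘ₗ F
  have hBdef : ∀ x y : Wc H a, B x y = F x (y : V) := fun x y => rfl
  have halt : B.IsAlt := fun x => (h1 x).1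
  have hnd : ∀ x, (∀ y, B x y = 0) → x = 0 := by
    intro x hx
    by_contra h0
    refine h2 x h0 (eq_zero_of_WW hF hN ha.ctr (ha.addC hE) (hcmp x h0) (h1 x) fun w hw => ?_)
    rw [hW] at hw
    exact hx ⟨w, hw⟩
  refine ⟨hcompl, B, halt, hnd, ?_, ?_⟩
  · intro h hh
    refine restrict_of_closure (isoG B) ?_ hh
    rintro t ⟨k1, x, φ, k2, k3, k4⟩
    have hx : x ∈ Wc H a := Submodule.subset_span k2
    have hx0 : (⟨x, hx⟩ : Wc H a) ≠ 0 := fun e => (ha.ctr.of_cmp k2).ne_zero (congrArg Subtype.val e)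
    obtain ⟨c, rfl⟩ := h4 ⟨x, hx⟩ hx0 φ ⟨k3, t, k1, k4⟩
    let φ' : Dual K (Wc H a) := (c • F ⟨x, hx⟩).domRestrict (Wc H a)
    have h5 : φ' ⟨x, hx⟩ = 0 := k3
    have hφ' : ∀ w : Wc H a, φ' w = c * B ⟨x, hx⟩ w := fun w => rfl
    refine ⟨LinearEquiv.transvection h5, ?_, ?_⟩
    · intro y z
      rw [LinearEquiv.transvection.apply, LinearEquiv.transvection.apply, hφ', hφ']
      simp only [map_add, map_smul, LinearMap.add_apply, LinearMap.smul_apply, smul_eq_mul]
      have e1 : B ⟨x, hx⟩ ⟨x, hx⟩ = 0 := halt _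
      have e2 : B y ⟨x, hx⟩ = - B ⟨x, hx⟩ y := (halt.neg_eq _ _).symm
      rw [e1, e2]
      ring
    · intro w
      rw [LinearEquiv.transvection.apply, k4]
      rfl
  · intro f hf
    refine mem_of_isometry B halt hnd (Ind (Wc H a) (Kc H a)) ?_ f hf
    intro x c
    by_cases hx : x = 0
    · refine ⟨1, Subgroup.one_mem _, fun w => ?_⟩
      rw [hx, smul_zero, add_zero]
      rfl
    · have k1 : Tv H (x : V) (c • F x) := hF _ _ c (h1 x)
      let φ' : Dual K (Wc H a) := (c • F x).domRestrict (Wc H a)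
      have hφ' : ∀ w : Wc H a, φ' w = c * B x w := fun w => rfl
      have h5 : φ' x = 0 := k1.1
      refine ⟨LinearEquiv.transvection h5, ?_, fun w => ?_⟩
      · obtain ⟨k3, t, k4, k5⟩ := k1
        refine ⟨t, Subgroup.subset_closure ⟨k4, x, _, hcmp x hx, k3, k5⟩, fun w => ?_⟩
        rw [LinearEquiv.transvection.apply, k5]
        rfl
      · rw [LinearEquiv.transvection.apply, hφ']

/-- Members of a component are mapped into the component by transvections of `H`. -/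
theorem cmp_tv (hF : Full H) (hN : NI H) {a x : V} (ha : Ctr H a) (hx : Cmp H a x) {b : V} {ψ : Dual K V}
    (hb : Tv H b ψ) : Cmp H a (x + ψ x • b) := by
  by_cases h0 : ψ x = 0
  · simpa [h0] using hx
  have hψ : ψ ≠ 0 := ne_zero_of_apply h0
  by_cases hb0 : b = 0
  · simpa [hb0] using hx
  have hxc := ha.of_cmp hx
  have h1 : NP H b x := ⟨ψ, hb, h0⟩
  obtain ⟨y, hy⟩ := hxc
  obtain ⟨φ, χ, k1, k2, k3, k4⟩ := hy
  have h2 : Cmp H b x := cmp_of_np hF hN hb0 k1 (ne_zero_of_apply k3) h1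
  have h3 : Rel H b x := h2.rel_of_np hF h1
  exact hx.trans (h2.symm.trans (h3.line hF (ψ x)).cmp)

theorem cmp_iff_of_gen (hF : Full H) (hN : NI H)
    (hgen : H = Subgroup.closure {t | t ∈ H ∧ ∃ x φ, (φ : Dual K V) x = 0 ∧ ∀ y, t y = y + φ y • x})
    {a : V} (ha : Ctr H a) {h : V ≃ₗ[K] V} (hh : h ∈ H) (x : V) : Cmp H a (h x) ↔ Cmp H a x := by
  have key : ∀ t ∈ H, ∀ b (ψ : Dual K V), ψ b = 0 → (∀ y, t y = y + ψ y • b) →
      ∀ x, Cmp H a x → Cmp H a (t x) := by
    intro t ht b ψ h1 h2 x hx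
    rw [h2]
    exact cmp_tv hF hN ha hx ⟨h1, t, ht, h2⟩
  rw [hgen] at hh
  induction hh using Subgroup.closure_induction generalizing x with
  | mem t ht =>
    obtain ⟨h1, b, ψ, h2, h3⟩ := ht
    refine ⟨fun hx => ?_, key t h1 b ψ h2 h3 x⟩
    have h4 : ∀ y, t⁻¹ y = y + (-ψ) y • b := by
      intro y
      rw [show (t⁻¹ : V ≃ₗ[K] V) y = t.symm y from rfl, LinearEquiv.symm_apply_eq, h3]
      simp [h2]
    have := key t⁻¹ (H.inv_mem h1) b (-ψ) (by simp [h2]) h4 _ hx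
    rwa [show (t⁻¹ : V ≃ₗ[K] V) (t x) = x from t.symm_apply_apply x] at this
  | one => exact Iff.rfl
  | mul g k _ _ ihg ihk =>
    exact (ihg (k x)).trans (ihk x)
  | inv g _ ih =>
    have h1 := ih (g.symm x)
    rw [LinearEquiv.apply_symm_apply] at h1
    exact h1.symm

variable (H) in
/-- `H` is generated by transvections. -/
def Gen : Prop :=
  H = Subgroup.closure {t | t ∈ H ∧ ∃ x φ, (φ : Dual K V) x = 0 ∧ ∀ y, t y = y + φ y • x}

theorem Wc_map (hF : Full H) (hN : NI H) (hgen : Gen H) {a : V} (ha : Ctr H a) {h : V ≃ₗ[K] V}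
    (hh : h ∈ H) : (Wc H a).map (h : V →ₗ[K] V) = Wc H a := by
  have key : ∀ h ∈ H, (Wc H a).map ((h : V ≃ₗ[K] V) : V →ₗ[K] V) ≤ Wc H a := by
    intro h hh
    rw [Wc, Submodule.map_span, Submodule.span_le]
    rintro _ ⟨x, hx, rfl⟩
    exact Submodule.subset_span ((cmp_iff_of_gen hF hN hgen ha hh x).2 hx)
  apply le_antisymm (key h hh)
  intro x hx
  refine ⟨h⁻¹ x, key h⁻¹ (H.inv_mem hh) ⟨x, hx, rfl⟩, ?_⟩
  exact h.apply_symm_apply x

theorem CC_map (hF : Full H) (hN : NI H) (hgen : Gen H) {a : V} (ha : Ctr H a) {h : V ≃ₗ[K] V}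
    (hh : h ∈ H) : (CC H a).map (h : V →ₗ[K] V) = CC H a := by
  have key : ∀ h ∈ H, (CC H a).map ((h : V ≃ₗ[K] V) : V →ₗ[K] V) ≤ CC H a := by
    rintro h hh _ ⟨x, hx, rfl⟩ y φ hy hφ
    have h1 := hφ.conj (H.inv_mem hh)
    have h2 := hx _ _ ((cmp_iff_of_gen hF hN hgen ha (H.inv_mem hh) y).2 hy) h1
    change φ ((h⁻¹ : V ≃ₗ[K] V).symm x) = 0 at h2
    exact h2
  apply le_antisymm (key h hh)
  intro x hx
  refine ⟨h⁻¹ x, key h⁻¹ (H.inv_mem hh) ⟨x, hx, rfl⟩, ?_⟩
  exact h.apply_symm_apply x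

theorem Kc_conj (hF : Full H) (hN : NI H) (hgen : Gen H) {a : V} (ha : Ctr H a) {h k : V ≃ₗ[K] V}
    (hh : h ∈ H) (hk : k ∈ Kc H a) : h * k * h⁻¹ ∈ Kc H a := by
  induction hk using Subgroup.closure_induction with
  | mem t ht =>
    obtain ⟨h1, x, φ, h2, h3, h4⟩ := ht
    refine Subgroup.subset_closure ⟨H.mul_mem (H.mul_mem hh h1) (H.inv_mem hh), h x,
      φ ∘ₗ (h.symm : V →ₗ[K] V), (cmp_iff_of_gen hF hN hgen ha hh x).2 h2, by simp [h3], ?_⟩
    intro y
    change h (t (h.symm y)) = _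
    rw [h4]
    simp
  | one => simp only [mul_one, mul_inv_cancel]; exact Subgroup.one_mem _
  | mul g k _ _ ihg ihk =>
    have := Subgroup.mul_mem _ ihg ihk
    rwa [show h * g * h⁻¹ * (h * k * h⁻¹) = h * (g * k) * h⁻¹ by group] at this
  | inv g _ ih =>
    have := Subgroup.inv_mem _ ih
    rwa [show (h * g * h⁻¹)⁻¹ = h * g⁻¹ * h⁻¹ by group] at this

/-- Different components are orthogonal. -/
theorem Wc_le_CC (hF : Full H) (hN : NI H) {a b : V} (ha : Ctr H a) (hb : Ctr H b)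
    (h : ¬ Cmp H a b) : Wc H a ≤ CC H b := by
  rw [Wc, Submodule.span_le]
  intro x hx y φ hy hφ
  by_contra h0
  obtain ⟨z, ψ, χ, k1, k2, k3, k4⟩ := ha.of_cmp hx
  have h1 : Cmp H y x := cmp_of_np hF hN (hb.of_cmp hy).ne_zero k1 (ne_zero_of_apply k3) ⟨φ, hφ, h0⟩
  exact h (Cmp.trans hx (hy.trans h1).symm)

theorem Kc_commute (hF : Full H) (hN : NI H) {a b : V} (ha : Ctr H a) (hb : Ctr H b)
    (h : ¬ Cmp H a b) (hcompl : IsCompl (Wc H b) (CC H b)) {g k : V ≃ₗ[K] V} (hg : g ∈ Kc H a)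
    (hk : k ∈ Kc H b) : g * k = k * g := by
  have h' : ¬ Cmp H b a := fun e => h e.symm
  have e1 : ∀ w ∈ Wc H b, g w = w := fun w hw => Kc_fix hg (Wc_le_CC hF hN hb ha h' hw)
  have e2 : ∀ w ∈ Wc H a, k w = w := fun w hw => Kc_fix hk (Wc_le_CC hF hN ha hb h hw)
  ext x
  change g (k x) = k (g x)
  have h1 : k x = x + (k x - x) := by abel
  have h2 : g x = x + (g x - x) := by abel
  have h3 : g (k x) = g x + (k x - x) := by
    nth_rewrite 1 [h1]
    rw [map_add, e1 _ (Kc_sub_mem hk x)]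
  have h4 : k (g x) = k x + (g x - x) := by
    nth_rewrite 1 [h2]
    rw [map_add, e2 _ (Kc_sub_mem hg x)]
  rw [h3, h4]
  abel

end FD

end Cfsg.Agent.H743.McL
end

-- part: H743/TvPrime
section
/-!
# Transvection groups over `ZMod p`, `p` odd, with trivial `p`-core

The hypotheses `Full`, `NI`, `SepC` of the general theory hold.
-/

set_option autoImplicit false
set_option linter.unusedVariables false
set_option linter.unusedSimpArgs false
set_option linter.unusedSectionVars false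

namespace Cfsg.Agent.H743.McL

open Module

section chain
variable {K V : Type*} [Field K] [AddCommGroup V] [Module K V]

/-- The group of all elements stabilising the chain `0 ≤ R ≤ W ≤ V`. -/
def Qs (W R : Submodule K V) (hRW : R ≤ W) : Subgroup (V ≃ₗ[K] V) where
  carrier := {h | (∀ v, h v - v ∈ W) ∧ (∀ w ∈ W, h w - w ∈ R) ∧ ∀ r ∈ R, h r = r}
  one_mem' := by
    refine ⟨fun v => ?_, fun w _ => ?_, fun r _ => rfl⟩
    · change v - v ∈ W
      rw [sub_self]; exact W.zero_mem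
    · change w - w ∈ R
      rw [sub_self]; exact R.zero_mem
  mul_mem' := by
    rintro g h ⟨g1, g2, g3⟩ ⟨h1, h2, h3⟩
    refine ⟨fun v => ?_, fun w hw => ?_, fun r hr => ?_⟩
    · change g (h v) - v ∈ W
      rw [show g (h v) - v = (g (h v) - h v) + (h v - v) by abel]
      exact W.add_mem (g1 _) (h1 _)
    · change g (h w) - w ∈ R
      rw [show g (h w) - w = (g (h w) - h w) + (h w - w) by abel]
      refine R.add_mem (g2 _ ?_) (h2 _ hw)
      have := W.add_mem (hRW (h2 w hw)) hw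
      rwa [sub_add_cancel] at this
    · change g (h r) = r
      rw [h3 r hr, g3 r hr]
  inv_mem' := by
    rintro g ⟨g1, g2, g3⟩
    have hW : ∀ w ∈ W, g.symm w ∈ W := by
      intro w hw
      have h1 := g1 (g.symm w)
      rw [LinearEquiv.apply_symm_apply] at h1
      have := W.sub_mem hw h1
      rwa [sub_sub_cancel] at this
    refine ⟨fun v => ?_, fun w hw => ?_, fun r hr => ?_⟩
    · change g.symm v - v ∈ W
      have h1 := g1 (g.symm v)
      rw [LinearEquiv.apply_symm_apply] at h1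
      rw [← neg_sub]
      exact W.neg_mem h1
    · change g.symm w - w ∈ R
      have h1 := g2 (g.symm w) (hW w hw)
      rw [LinearEquiv.apply_symm_apply] at h1
      rw [← neg_sub]
      exact R.neg_mem h1
    · change g.symm r = r
      rw [LinearEquiv.symm_apply_eq, g3 r hr]

theorem mem_Qs {W R : Submodule K V} {hRW : R ≤ W} {h : V ≃ₗ[K] V} :
    h ∈ Qs W R hRW ↔ (∀ v, h v - v ∈ W) ∧ (∀ w ∈ W, h w - w ∈ R) ∧ ∀ r ∈ R, h r = r := Iff.rfl

theorem Qs_pow {W R : Submodule K V} {hRW : R ≤ W} {h : V ≃ₗ[K] V} (hh : h ∈ Qs W R hRW) (v : V)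
    (n : ℕ) : (h ^ n) v = v + (n : K) • (h v - v) + (Nat.choose n 2 : K) • (h (h v - v) - (h v - v)) := by
  induction n with
  | zero => simp
  | succ n ih =>
    rw [pow_succ']
    change h ((h ^ n) v) = _
    rw [ih]
    obtain ⟨h1, h2, h3⟩ := hh
    have k1 : h (h (h v - v) - (h v - v)) = h (h v - v) - (h v - v) := h3 _ (h2 _ (h1 v))
    simp only [map_add, map_smul]
    rw [k1]
    have k2 : h (h v - v) = (h v - v) + (h (h v - v) - (h v - v)) := by abel
    set u := h v - v with hu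
    set w := h u - u with hw
    have k3 : h v = v + u := by rw [hu]; abel
    rw [k3, k2]
    rw [Nat.choose_succ_succ' n 1, Nat.choose_one_right]
    push_cast
    module

end chain

variable {p : ℕ} [hpf : Fact p.Prime] {V : Type*} [AddCommGroup V] [Module (ZMod p) V]

theorem Qs_pow_p (hp : Odd p) {W R : Submodule (ZMod p) V} {hRW : R ≤ W} {h : V ≃ₗ[ZMod p] V}
    (hh : h ∈ Qs W R hRW) : h ^ p = 1 := by
  ext v
  rw [Qs_pow hh]
  have h1 : ((p : ℕ) : ZMod p) = 0 := ZMod.natCast_self p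
  have h2 : ((Nat.choose p 2 : ℕ) : ZMod p) = 0 := by
    rw [ZMod.natCast_eq_zero_iff]
    have hp3 : 2 < p := by
      rcases hpf.out.eq_two_or_odd' with e | e
      · rw [e] at hp
        exact absurd hp (by decide)
      · have := hpf.out.two_le
        rcases this.eq_or_lt with h | h
        · rw [← h] at e
          exact absurd e (by decide)
        · exact h
    exact hpf.out.dvd_choose_self (by norm_num) hp3
  rw [h1, h2]
  simp

theorem full_of_prime (H : Subgroup (V ≃ₗ[ZMod p] V)) : Full H := by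
  intro a φ c h
  have : ∀ n : ℕ, Tv H a ((n : ZMod p) • φ) := by
    intro n
    induction n with
    | zero =>
      have e : (((0 : ℕ) : ZMod p) • φ) = 0 := by rw [Nat.cast_zero, zero_smul]
      rw [e]
      exact tv_zero_right a
    | succ n ih =>
      have e : (((n + 1 : ℕ) : ZMod p) • φ) = (n : ZMod p) • φ + φ := by
        rw [Nat.cast_succ, add_smul, one_smul]
      rw [e]
      exact ih.add_right h
  have h1 := this c.val
  rwa [ZMod.natCast_zmod_val] at h1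

variable {H : Subgroup (V ≃ₗ[ZMod p] V)}

theorem isPGroup_of_le_Qs (hp : Odd p) {W R : Submodule (ZMod p) V} {hRW : R ≤ W} {N : Subgroup H}
    (hN : ∀ x ∈ N, (x : V ≃ₗ[ZMod p] V) ∈ Qs W R hRW) : IsPGroup p N := by
  intro g
  refine ⟨1, ?_⟩
  rw [pow_one]
  apply Subtype.ext
  apply Subtype.ext
  have := Qs_pow_p hp (hN g g.2)
  simpa using this

theorem ni_of_pCore [Finite V] (hp : Odd p) (hO : Cfsg.pCore p H = ⊥) : NI H := by
  intro a φ h ha hφ
  by_contra hcon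
  push Not at hcon
  obtain ⟨h1, t, ht, h2⟩ := id h
  have hfin : Finite (V ≃ₗ[ZMod p] V) := Finite.of_injective (fun f => (f : V → V)) DFunLike.coe_injective
  have key : (⟨t, ht⟩ : H) ∈ Cfsg.pCore p H := by
    apply Cfsg.Agent.Involutions.BaerSuzuki.mem_pCore_of_conj_pairs
    intro g
    have hs : Tv H ((g : V ≃ₗ[ZMod p] V) a) (φ ∘ₗ ((g : V ≃ₗ[ZMod p] V).symm : V →ₗ[ZMod p] V)) :=
      h.conj g.2
    set b := (g : V ≃ₗ[ZMod p] V) a with hb
    set ψ := φ ∘ₗ ((g : V ≃ₗ[ZMod p] V).symm : V →ₗ[ZMod p] V) with hψ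
    have hsf : ∀ y, ((g : V ≃ₗ[ZMod p] V) * t * (g : V ≃ₗ[ZMod p] V)⁻¹) y = y + ψ y • b := by
      intro y
      change (g : V ≃ₗ[ZMod p] V) (t ((g : V ≃ₗ[ZMod p] V).symm y)) = _
      rw [h2, map_add, map_smul, LinearEquiv.apply_symm_apply]
      rfl
    have main : ∀ (R : Submodule (ZMod p) V) (hR : R ≤ Submodule.span (ZMod p) {a, b}),
        t ∈ Qs (Submodule.span (ZMod p) {a, b}) R hR →
        (g : V ≃ₗ[ZMod p] V) * t * (g : V ≃ₗ[ZMod p] V)⁻¹ ∈ Qs (Submodule.span (ZMod p) {a, b}) R hR →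
        IsPGroup p (Subgroup.closure {(⟨t, ht⟩ : H), g * ⟨t, ht⟩ * g⁻¹}) := by
      intro R hR k1 k2
      refine isPGroup_of_le_Qs hp (W := Submodule.span (ZMod p) {a, b}) (R := R) (hRW := hR) ?_
      intro x hx
      have : Subgroup.closure {(⟨t, ht⟩ : H), g * ⟨t, ht⟩ * g⁻¹} ≤
          (Qs (Submodule.span (ZMod p) {a, b}) R hR).comap H.subtype := by
        rw [Subgroup.closure_le]
        rintro y (rfl | rfl)
        · exact k1
        · exact k2
      exact this hx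
    have ha' : a ∈ Submodule.span (ZMod p) {a, b} := Submodule.subset_span (by simp)
    have hb' : b ∈ Submodule.span (ZMod p) {a, b} := Submodule.subset_span (by simp)
    have hspan : ∀ (χ : Dual (ZMod p) V), χ a = 0 → χ b = 0 → ∀ w ∈ Submodule.span (ZMod p) {a, b}, χ w = 0 := by
      intro χ e1 e2 w hw
      obtain ⟨c, d, rfl⟩ := Submodule.mem_span_pair.1 hw
      rw [map_add, map_smul, map_smul, e1, e2, smul_zero, smul_zero, add_zero]
    by_cases e : φ b = 0
    · have hR : Submodule.span (ZMod p) {b} ≤ Submodule.span (ZMod p) {a, b} :=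
        Submodule.span_mono (by simp)
      refine main _ hR ⟨fun v => ?_, fun w hw => ?_, fun r hr => ?_⟩
        ⟨fun v => ?_, fun w hw => ?_, fun r hr => ?_⟩
      · rw [h2, add_sub_cancel_left]
        exact Submodule.smul_mem _ _ ha'
      · rw [h2, hspan φ h1 e w hw, zero_smul, add_zero, sub_self]
        exact Submodule.zero_mem _
      · rw [h2, hspan φ h1 e r (hR hr), zero_smul, add_zero]
      · rw [hsf, add_sub_cancel_left]
        exact Submodule.smul_mem _ _ hb'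
      · rw [hsf, add_sub_cancel_left]
        exact Submodule.smul_mem _ _ (Submodule.mem_span_singleton_self b)
      · obtain ⟨c, rfl⟩ := Submodule.mem_span_singleton.1 hr
        rw [hsf, map_smul, hs.1, smul_zero, zero_smul, add_zero]
    · have e' : ψ a = 0 := hcon b ψ hs e
      have hR : Submodule.span (ZMod p) {a} ≤ Submodule.span (ZMod p) {a, b} :=
        Submodule.span_mono (by simp)
      refine main _ hR ⟨fun v => ?_, fun w hw => ?_, fun r hr => ?_⟩
        ⟨fun v => ?_, fun w hw => ?_, fun r hr => ?_⟩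
      · rw [h2, add_sub_cancel_left]
        exact Submodule.smul_mem _ _ ha'
      · rw [h2, add_sub_cancel_left]
        exact Submodule.smul_mem _ _ (Submodule.mem_span_singleton_self a)
      · obtain ⟨c, rfl⟩ := Submodule.mem_span_singleton.1 hr
        rw [h2, map_smul, h1, smul_zero, zero_smul, add_zero]
      · rw [hsf, add_sub_cancel_left]
        exact Submodule.smul_mem _ _ hb'
      · rw [hsf, hspan ψ e' hs.1 w hw, zero_smul, add_zero, sub_self]
        exact Submodule.zero_mem _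
      · rw [hsf, hspan ψ e' hs.1 r (hR hr), zero_smul, add_zero]
  rw [hO, Subgroup.mem_bot] at key
  have ht1 : t = 1 := congrArg Subtype.val key
  apply hφ
  ext x
  have := h2 x
  rw [ht1] at this
  have h3 : φ x • a = 0 := by
    have h4 : x = x + φ x • a := this
    exact (left_eq_add.1 h4)
  exact (smul_eq_zero.1 h3).resolve_right ha

theorem sepC_of_pCore [Finite V] (hp : Odd p) (hO : Cfsg.pCore p H = ⊥) (hgen : Gen H)
    {hF : Full H} {a : V} (ha : SpH hF a) : SepC H a := by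
  have hN : NI H := ni_of_pCore hp hO
  intro x y hx hy hxy
  obtain ⟨f, hf1, hf2⟩ := ha.exists_form
  have hf : Frm hF a f := ⟨fun x hx => (hf1 x hx).1, fun x hx => (hf1 x hx).2, hf2⟩
  obtain ⟨k1, t, ht, k2⟩ := hf.tv x hx
  obtain ⟨k3, s, hs, k4⟩ := hf.tv y hy
  -- `f y` and `f x` agree on `Wc`
  have hfW : ∀ w ∈ Wc H a, f y w = f x w := by
    intro w hw
    have : ∀ w ∈ {x | Cmp H a x}, (f y - f x) w = 0 := by
      intro w hw
      have h1 : f w (y - x) = 0 := hxy w (f w) hw (hf.tv w hw)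
      rw [map_sub] at h1
      rw [LinearMap.sub_apply, hf.skew y w hy hw, hf.skew x w hx hw]
      linear_combination -h1
    have h2 : Wc H a ≤ (f y - f x).ker := by
      rw [Wc, Submodule.span_le]
      exact this
    have h3 : (f y - f x) w = 0 := h2 hw
    rw [LinearMap.sub_apply, sub_eq_zero] at h3
    exact h3
  have hxW : x ∈ Wc H a := Submodule.subset_span hx
  have hyW : y ∈ Wc H a := Submodule.subset_span hy
  have htinv : ∀ v, t.symm v = v - f x v • x := by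
    intro v
    rw [LinearEquiv.symm_apply_eq, k2, map_sub, map_smul, k1, smul_zero, sub_zero]
    abel
  let R : Submodule (ZMod p) V := Wc H a ⊓ CC H a
  have hRW : R ≤ Wc H a := inf_le_left
  have hq : s * t⁻¹ ∈ Qs (Wc H a) R hRW := by
    refine ⟨fun v => ?_, fun w hw => ?_, fun r hr => ?_⟩
    · change s (t.symm v) - v ∈ _
      rw [htinv, k4]
      have : v - f x v • x + f y (v - f x v • x) • y - v = f y (v - f x v • x) • y - f x v • x := by abel
      rw [this]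
      exact Submodule.sub_mem _ (Submodule.smul_mem _ _ hyW) (Submodule.smul_mem _ _ hxW)
    · change s (t.symm w) - w ∈ _
      rw [htinv, k4, map_sub, map_smul, hfW x hxW, k1, smul_zero, sub_zero, hfW w hw]
      have : w - f x w • x + f x w • y - w = f x w • (y - x) := by module
      rw [this]
      exact ⟨Submodule.smul_mem _ _ (Submodule.sub_mem _ hyW hxW), Submodule.smul_mem _ _ hxy⟩
    · change s (t.symm r) = r
      have e1 : f x r = 0 := hr.2 x _ hx (hf.tv x hx)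
      have e2 : f y r = 0 := hr.2 y _ hy (hf.tv y hy)
      rw [htinv, e1, zero_smul, sub_zero, k4, e2, zero_smul, add_zero]
  let N : Subgroup H := (Qs (Wc H a) R hRW).comap H.subtype
  have hNn : N.Normal := by
    refine ⟨fun n hn g => ?_⟩
    have hmapW : ∀ h ∈ H, ∀ w ∈ Wc H a, (h : V ≃ₗ[ZMod p] V) w ∈ Wc H a := by
      intro h hh w hw
      have e := Wc_map hF hN hgen ha.ctr hh
      rw [← e]
      exact ⟨w, hw, rfl⟩
    have hmapC : ∀ h ∈ H, ∀ w ∈ CC H a, (h : V ≃ₗ[ZMod p] V) w ∈ CC H a := by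
      intro h hh w hw
      have e := CC_map hF hN hgen ha.ctr hh
      rw [← e]
      exact ⟨w, hw, rfl⟩
    obtain ⟨n1, n2, n3⟩ := (hn : (n : V ≃ₗ[ZMod p] V) ∈ Qs (Wc H a) R hRW)
    have hg' : ((g : V ≃ₗ[ZMod p] V)⁻¹) ∈ H := H.inv_mem g.2
    change ((g : V ≃ₗ[ZMod p] V) * (n : V ≃ₗ[ZMod p] V) * (g : V ≃ₗ[ZMod p] V)⁻¹) ∈ Qs (Wc H a) R hRW
    refine ⟨fun v => ?_, fun w hw => ?_, fun r hr => ?_⟩
    · change (g : V ≃ₗ[ZMod p] V) ((n : V ≃ₗ[ZMod p] V) ((g : V ≃ₗ[ZMod p] V).symm v)) - v ∈ _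
      have e := n1 ((g : V ≃ₗ[ZMod p] V).symm v)
      have e2 := hmapW _ g.2 _ e
      rwa [map_sub, LinearEquiv.apply_symm_apply] at e2
    · change (g : V ≃ₗ[ZMod p] V) ((n : V ≃ₗ[ZMod p] V) ((g : V ≃ₗ[ZMod p] V).symm w)) - w ∈ _
      have e := n2 ((g : V ≃ₗ[ZMod p] V).symm w) (hmapW _ hg' w hw)
      have e2 := hmapW _ g.2 _ e.1
      have e3 := hmapC _ g.2 _ e.2
      rw [map_sub, LinearEquiv.apply_symm_apply] at e2 e3
      exact ⟨e2, e3⟩
    · change (g : V ≃ₗ[ZMod p] V) ((n : V ≃ₗ[ZMod p] V) ((g : V ≃ₗ[ZMod p] V).symm r)) = _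
      have e : (n : V ≃ₗ[ZMod p] V) ((g : V ≃ₗ[ZMod p] V).symm r) = (g : V ≃ₗ[ZMod p] V).symm r :=
        n3 ((g : V ≃ₗ[ZMod p] V).symm r) ⟨hmapW _ hg' r hr.1, hmapC _ hg' r hr.2⟩
      rw [e, LinearEquiv.apply_symm_apply]
  have hNp : IsPGroup p N := isPGroup_of_le_Qs (hRW := hRW) hp (fun x hx => hx)
  have hle : N ≤ Cfsg.pCore p H := le_sSup ⟨hNn, hNp⟩
  have hst : (⟨s * t⁻¹, H.mul_mem hs (H.inv_mem ht)⟩ : H) ∈ N := hq
  have h1 := hle hst
  rw [hO, Subgroup.mem_bot] at h1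
  have h2 : s * t⁻¹ = 1 := congrArg Subtype.val h1
  have h3 : s = t := mul_inv_eq_one.1 h2
  have h4 : ∀ v, f y v • y = f x v • x := by
    intro v
    have e1 := k4 v
    have e2 := k2 v
    rw [h3, e2] at e1
    exact (add_left_cancel e1).symm
  -- hence `y` is a multiple of `x`
  obtain ⟨b, hb⟩ := ha.ctr.of_cmp hy
  have h5 : f y b ≠ 0 := ha.np hy (hf.tv y hy) (hf.ne y hy) hb.np
  have h6 : y = ((f y b)⁻¹ * f x b) • x := by
    rw [← smul_smul, ← h4 b, smul_smul, inv_mul_cancel₀ h5, one_smul]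
  set μ := (f y b)⁻¹ * f x b with hμ
  by_cases hμ1 : μ = 1
  · rw [h6, hμ1, one_smul]
  exfalso
  have h7 : y - x = (μ - 1) • x := by rw [h6]; module
  rw [h7] at hxy
  have h8 : x ∈ CC H a := by
    have := Submodule.smul_mem _ (μ - 1)⁻¹ hxy
    rwa [smul_smul, inv_mul_cancel₀ (sub_ne_zero.2 hμ1), one_smul] at this
  obtain ⟨c, hc⟩ := ha.ctr.of_cmp hx
  obtain ⟨φ, j1, j2⟩ := hc.symm.np
  exact j2 (h8 c φ (hx.trans hc.cmp) j1)

end Cfsg.Agent.H743.McL
end

-- part: H743/TvFinal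
section
/-!
# Assembly lemmas for McLaughlin's theorem over `ZMod p`
-/

set_option autoImplicit false
set_option linter.unusedVariables false
set_option linter.unusedSimpArgs false
set_option linter.unusedSectionVars false

namespace Cfsg.Agent.H743.McL

open Module

section general
variable {K V : Type*} [Field K] [AddCommGroup V] [Module K V]

/-- An internal direct sum from a family of complemented, mutually orthogonal subspaces. -/
theorem isInternal_cons {n : ℕ} (A C : Fin n → Submodule K V) (h : ∀ j, IsCompl (A j) (C j))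
    (h' : ∀ i j, i ≠ j → A i ≤ C j) :
    DirectSum.IsInternal (Fin.cons (⨅ j, C j) A : Fin (n + 1) → Submodule K V) := by
  rw [DirectSum.isInternal_submodule_iff_iSupIndep_and_iSup_eq_top]
  set W : Fin (n + 1) → Submodule K V := Fin.cons (⨅ j, C j) A with hW
  have W0 : W 0 = ⨅ j, C j := rfl
  have Ws : ∀ j : Fin n, W j.succ = A j := fun j => rfl
  let P : Fin n → V →ₗ[K] V := fun j => (A j).projection (C j) (h j)
  have P1 : ∀ j x, P j x ∈ A j := fun j x => Submodule.projection_apply_mem (h j) x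
  have P2 : ∀ j x, x ∈ A j → P j x = x := fun j x hx => Submodule.projection_apply_of_mem_left (h j) hx
  have P3 : ∀ j x, P j x = 0 ↔ x ∈ C j := by
    intro j x
    change (A j).projection (C j) (h j) x = 0 ↔ _
    rw [← Submodule.projectionOnto_apply_eq_zero_iff (h j), Submodule.projection_apply]
    simp
  let Q : V →ₗ[K] V := ∑ j, P j
  have Qap : ∀ x, Q x = ∑ j, P j x := fun x => by simp [Q]
  constructor
  · intro i
    refine Fin.cases ?_ (fun j => ?_) i
    · rw [Submodule.disjoint_def]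
      intro x hx hx'
      rw [W0, Submodule.mem_iInf] at hx
      have h1 : Q x = 0 := by
        rw [Qap]
        exact Finset.sum_eq_zero fun j _ => (P3 j x).2 (hx j)
      have h2 : (⨆ k, ⨆ (_ : k ≠ (0 : Fin (n + 1))), W k) ≤ LinearMap.ker (Q - LinearMap.id) := by
        refine iSup_le fun k => iSup_le fun hk => ?_
        obtain ⟨k, rfl⟩ := Fin.exists_succ_eq.2 hk
        intro y hy
        rw [Ws] at hy
        rw [LinearMap.mem_ker, LinearMap.sub_apply, LinearMap.id_apply, Qap,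
          Finset.sum_eq_single k, P2 k y hy, sub_self]
        · intro j _ hj
          exact (P3 j y).2 (h' k j (Ne.symm hj) hy)
        · intro hk'
          exact absurd (Finset.mem_univ k) hk'
      have h3 := h2 hx'
      rw [LinearMap.mem_ker, LinearMap.sub_apply, LinearMap.id_apply, h1, zero_sub, neg_eq_zero] at h3
      exact h3
    · rw [Ws]
      refine (h j).disjoint.mono_right ?_
      refine iSup_le fun k => iSup_le fun hk => ?_
      revert hk
      refine Fin.cases ?_ (fun k => ?_) k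
      · intro _
        rw [W0]
        exact iInf_le _ j
      · intro hk
        rw [Ws]
        exact h' k j fun e => hk (by rw [e])
  · rw [Submodule.eq_top_iff']
    intro x
    have h1 : Q x ∈ ⨆ i, W i := by
      rw [Qap]
      refine Submodule.sum_mem _ fun j _ => ?_
      exact Submodule.mem_iSup_of_mem j.succ (P1 j x)
    have h2 : x - Q x ∈ ⨆ i, W i := by
      refine Submodule.mem_iSup_of_mem 0 ?_
      rw [W0, Submodule.mem_iInf]
      intro j
      rw [← P3, map_sub, Qap, map_sum, Finset.sum_eq_single j, P2 j _ (P1 j x), sub_self]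
      · intro k _ hk
        exact (P3 j _).2 (h' k j hk (P1 k x))
      · intro hk'
        exact absurd (Finset.mem_univ j) hk'
    have := Submodule.add_mem _ h1 h2
    rwa [add_sub_cancel] at this

/-- The restriction homomorphism. -/
theorem exists_rho {U : Submodule K V} {X : Subgroup (V ≃ₗ[K] V)}
    (h : ∀ g ∈ X, ∃ f : U ≃ₗ[K] U, ∀ w : U, ((f w : U) : V) = g w) :
    ∃ ρ : X →* (U ≃ₗ[K] U), ∀ (g : X) (w : U), ((ρ g w : U) : V) = (g : V ≃ₗ[K] V) w := by
  choose F hF using h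
  refine ⟨⟨⟨fun g => F g g.2, ?_⟩, ?_⟩, fun g w => hF _ _ _⟩
  · ext w
    rw [hF]
    rfl
  · intro g k
    ext w
    change ((F (g * k : X) _ w : U) : V) = ((F g g.2 (F k k.2 w) : U) : V)
    rw [hF, hF, hF]
    rfl

theorem range_rho {U : Submodule K V} {X : Subgroup (V ≃ₗ[K] V)} (ρ : X →* (U ≃ₗ[K] U))
    (hρ : ∀ (g : X) (w : U), ((ρ g w : U) : V) = (g : V ≃ₗ[K] V) w) (Y : Subgroup (U ≃ₗ[K] U))
    (h1 : ∀ g ∈ X, ∃ f ∈ Y, ∀ w : U, ((f w : U) : V) = g w)
    (h2 : ∀ f ∈ Y, f ∈ Ind U X) : ρ.range = Y := by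
  apply le_antisymm
  · rintro _ ⟨g, rfl⟩
    obtain ⟨f, hf, hfw⟩ := h1 g g.2
    have : ρ g = f := by
      ext w
      rw [hρ, hfw]
    rw [this]
    exact hf
  · intro f hf
    obtain ⟨g, hg, hgw⟩ := h2 f hf
    refine ⟨⟨g, hg⟩, ?_⟩
    ext w
    rw [hρ, hgw]

theorem exists_enum (H : Subgroup (V ≃ₗ[K] V)) [Finite V] :
    ∃ (n : ℕ) (r : Fin n → V), (∀ j, Ctr H (r j)) ∧ (∀ i j, i ≠ j → ¬ Cmp H (r i) (r j)) ∧
      ∀ x, Ctr H x → ∃ j, Cmp H (r j) x := by
  classical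
  let S : Setoid {x : V // Ctr H x} :=
    ⟨fun x y => Cmp H x.1 y.1, ⟨fun x => Cmp.refl _, fun h => h.symm, fun h h' => h.trans h'⟩⟩
  obtain ⟨n, ⟨e⟩⟩ := Finite.exists_equiv_fin (Quotient S)
  refine ⟨n, fun j => (e.symm j).out.1, fun j => (e.symm j).out.2, ?_, ?_⟩
  · intro i j hij h
    apply hij
    have h1 : (e.symm i).out ≈ (e.symm j).out := h
    have h2 := Quotient.sound h1
    rw [Quotient.out_eq, Quotient.out_eq] at h2
    exact e.symm.injective h2
  · intro x hx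
    refine ⟨e (Quotient.mk S ⟨x, hx⟩), ?_⟩
    have h1 : (e.symm (e (Quotient.mk S ⟨x, hx⟩))).out ≈ ⟨x, hx⟩ := by
      rw [Equiv.symm_apply_apply]
      exact Quotient.mk_out (s := S) ⟨x, hx⟩
    exact h1

/-- An endomorphism of rank one. -/
theorem exists_rank_one [FiniteDimensional K V] (N : V →ₗ[K] V)
    (h : finrank K (LinearMap.ker N) + 1 = finrank K V) :
    ∃ (a : V) (φ : Dual K V), ∀ x, N x = φ x • a := by
  have h1 := LinearMap.finrank_range_add_finrank_ker N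
  have h2 : finrank K (LinearMap.range N) = 1 := by omega
  let e : LinearMap.range N ≃ₗ[K] K := LinearEquiv.ofFinrankEq _ _ (by rw [h2, finrank_self])
  refine ⟨(e.symm 1 : LinearMap.range N), (e : LinearMap.range N →ₗ[K] K) ∘ₗ N.rangeRestrict, fun x => ?_⟩
  have h3 : e.symm (e (N.rangeRestrict x)) = N.rangeRestrict x := e.symm_apply_apply _
  have h4 : e.symm (e (N.rangeRestrict x)) = e (N.rangeRestrict x) • e.symm 1 := by
    rw [← map_smul, smul_eq_mul, mul_one]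
  rw [h4] at h3
  exact (congrArg Subtype.val h3).symm

end general

variable {p : ℕ} [hpf : Fact p.Prime] {V : Type*} [AddCommGroup V] [Module (ZMod p) V]

theorem transvection_of_mem [FiniteDimensional (ZMod p) V] {t : V ≃ₗ[ZMod p] V} (h1 : orderOf t = p)
    (h2 : finrank (ZMod p) (LinearMap.ker ((t : V →ₗ[ZMod p] V) - LinearMap.id)) + 1 =
      finrank (ZMod p) V) :
    ∃ (a : V) (φ : Dual (ZMod p) V), φ a = 0 ∧ a ≠ 0 ∧ φ ≠ 0 ∧ ∀ x, t x = x + φ x • a := by
  obtain ⟨a, φ, h⟩ := exists_rank_one _ h2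
  have ht : ∀ x, t x = x + φ x • a := by
    intro x
    have := h x
    rw [LinearMap.sub_apply, LinearMap.id_apply] at this
    rw [← this]
    change t x = x + (t x - x)
    abel
  have hne : t ≠ 1 := by
    rintro rfl
    rw [orderOf_one] at h1
    exact hpf.out.one_lt.ne h1
  have ha : a ≠ 0 := by
    rintro rfl
    apply hne
    ext x
    rw [ht, smul_zero, add_zero]
    rfl
  have hφ : φ ≠ 0 := by
    rintro rfl
    apply hne
    ext x
    rw [ht, LinearMap.zero_apply, zero_smul, add_zero]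
    rfl
  refine ⟨a, φ, ?_, ha, hφ, ht⟩
  have h3 : ∀ (n : ℕ) (x : V), φ ((t ^ n) x) = (1 + φ a) ^ n * φ x := by
    intro n x
    induction n with
    | zero => simp
    | succ n ih =>
      rw [pow_succ']
      change φ (t ((t ^ n) x)) = _
      rw [ht, map_add, map_smul, ih, smul_eq_mul]
      ring
  obtain ⟨x, hx⟩ : ∃ x, φ x ≠ 0 := by
    by_contra hcon
    push Not at hcon
    exact hφ (LinearMap.ext hcon)
  have h4 := h3 p x
  have hp1 : t ^ p = 1 := by
    have := pow_orderOf_eq_one t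
    rwa [h1] at this
  rw [hp1, ZMod.pow_card] at h4
  have h5 : φ a * φ x = 0 := by
    have : φ x = (1 + φ a) * φ x := h4
    linear_combination -this
  exact (mul_eq_zero.1 h5).resolve_right hx

/-- Everything about one component. -/
theorem comp_main [Finite V] (hp : Odd p) {H : Subgroup (V ≃ₗ[ZMod p] V)}
    (hO : Cfsg.pCore p H = ⊥) (hgen : Gen H) {a : V} (ha : Ctr H a) :
    IsCompl (Wc H a) (CC H a) ∧
    ∃ ρ : Kc H a →* (Wc H a ≃ₗ[ZMod p] Wc H a),
      (∀ (h : Kc H a) (v : Wc H a), ((ρ h v : Wc H a) : V) = (h : V ≃ₗ[ZMod p] V) (v : V)) ∧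
      ((ρ.range : Set (Wc H a ≃ₗ[ZMod p] Wc H a)) =
          {f : Wc H a ≃ₗ[ZMod p] Wc H a | LinearMap.det (f : Wc H a →ₗ[ZMod p] Wc H a) = 1} ∨
        ∃ B : LinearMap.BilinForm (ZMod p) (Wc H a), B.IsAlt ∧ B.Nondegenerate ∧
          (ρ.range : Set (Wc H a ≃ₗ[ZMod p] Wc H a)) =
            {f : Wc H a ≃ₗ[ZMod p] Wc H a | ∀ x y, B (f x) (f y) = B x y}) := by
  have hF : Full H := full_of_prime H
  have hN : NI H := ni_of_pCore hp hO
  by_cases hm : 2 ≤ finrank (ZMod p) (Phi hF a)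
  · obtain ⟨h1, h2, h3⟩ := sl_group hF hN ha hm
    refine ⟨h1, ?_⟩
    obtain ⟨ρ, hρ⟩ := exists_rho (fun g hg => by
      obtain ⟨f, -, hf⟩ := h2 g hg
      exact ⟨f, hf⟩)
    refine ⟨ρ, hρ, Or.inl ?_⟩
    rw [range_rho ρ hρ (detOne (ZMod p) (Wc H a)) h2 (fun f hf => h3 f hf)]
    rfl
  · have hp3 : 2 < p := by
      have := hpf.out.two_le
      rcases this.eq_or_lt with h | h
      · rw [← h] at hp
        exact absurd hp (by decide)
      · exact h
    have hone : finrank (ZMod p) (Phi hF a) = 1 := by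
      obtain ⟨b, hb⟩ := id ha
      obtain ⟨φ, k1, k2⟩ := hb.np
      have : 0 < finrank (ZMod p) (Phi hF a) := by
        rw [finrank_pos_iff]
        exact ⟨⟨⟨φ, k1⟩, 0, fun e => ne_zero_of_apply k2 (congrArg Subtype.val e)⟩⟩
      omega
    have hbig : ∃ c : ZMod p, c ≠ 0 ∧ c ≠ 1 := by
      refine ⟨2, ?_, ?_⟩
      · have : ((2 : ℕ) : ZMod p) ≠ 0 := by
          rw [Ne, ZMod.natCast_eq_zero_iff]
          exact Nat.not_dvd_of_pos_of_lt (by norm_num) hp3
        simpa using this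
      · intro e
        have h1 : (1 : ZMod p) = 0 := by linear_combination e
        exact one_ne_zero h1
    have hS : SpH hF a := ⟨ha, hone, hbig⟩
    obtain ⟨h1, B, h2, h3, h4, h5⟩ := sp_group hN hS (sepC_of_pCore hp hO hgen hS)
    refine ⟨h1, ?_⟩
    obtain ⟨ρ, hρ⟩ := exists_rho (fun g hg => by
      obtain ⟨f, -, hf⟩ := h4 g hg
      exact ⟨f, hf⟩)
    refine ⟨ρ, hρ, Or.inr ⟨B, h2, ?_, ?_⟩⟩
    · refine ⟨h3, fun y hy => h3 y fun x => ?_⟩
      rw [← h2.neg_eq, hy, neg_zero]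
    · rw [range_rho ρ hρ (isoG B) h4 (fun f hf => h5 f hf)]
      rfl

end Cfsg.Agent.H743.McL
end
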