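/-
helper743: elements of `Ω(Q)` with prescribed order and large fixed space (used for S4129).
-/
import Mathlib
import Cfsg.Agent.H524.LinReg_m3
import Cfsg.Agent.H377.OddThree_m3
import Cfsg.Agent.H182.CentOrth
import Cfsg.Agent.Prune
set_option linter.all false
prune_inst 0x7f00000000000000000000000000000000000000000000000000000000000000000000000000000000000000000000000000000000000000000000000000000000000000000000000000000000000000003fffffffffffffffffffffffffffbeffbdffffffff
open scoped Cfsg.Agent.FastGrp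

set_option autoImplicit false
set_option linter.unusedSectionVars false
set_option linter.style.haveILetI false

namespace Cfsg.Agent.H743.RegOm

open Module QuadraticMap Cfsg
open Cfsg.Agent.LieClassical.OrthCore Cfsg.Agent.LieClassical.OrthForms
open Cfsg.Agent.H182.Cent (rho rho_apply rho_injective)
open Cfsg.Agent.H524.DirRed Cfsg.Agent.H524.LinReg

section

variable {F : Type*} [Field F] [Finite F] {ι : Type} [Fintype ι] [DecidableEq ι]

/-- squares of isometries as elements of `Ω` -/
theorem exists_omega (Q : QuadraticForm F (ι → F)) (hQ : Nondeg Q) (h5 : 5 ≤ Fintype.card ι)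
    {V : Type*} [AddCommGroup V] [Module F V] (Q' : V → F) (e : (ι → F) ≃ₗ[F] V)
    (c : F) (hc : c ≠ 0) (he : ∀ u, Q' (e u) = c * Q u) (T : Module.End F V) (hT : ∀ v, Q' (T v) = Q' v) :
    ∃ z : Omega F ⇑Q, rho (⇑Q) z = e.symm.conj (T ^ 2) := by
  classical
  let φ : Module.End F V ≃ₐ[F] Matrix ι ι F := (e.symm.conjAlgEquiv F).trans LinearMap.toMatrixAlgEquiv'
  have hφ : ∀ (S : Module.End F V) (x : ι → F), (φ S).mulVec x = e.symm (S (e x)) := by
    intro S x
    show (LinearMap.toMatrix' (e.symm.conj S)).mulVec x = _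
    rw [LinearMap.toMatrix'_mulVec]
    rfl
  have hM : ∀ x, Q ((φ T).mulVec x) = Q x := by
    intro x
    apply mul_left_cancel₀ hc
    rw [← he, ← he, hφ, e.apply_symm_apply, hT]
  have hinj : ∀ x, (φ T).mulVec x = 0 → x = 0 := by
    intro x hx
    apply hQ
    intro y
    have h1 : polar Q ((φ T).mulVec x) ((φ T).mulVec y) = polar Q x y := by
      rw [polar, polar, ← Matrix.mulVec_add, hM, hM, hM]
    rw [← h1, hx]
    simp [polar]
  have hunit : IsUnit (φ T) := by
    rw [← Matrix.mulVec_injective_iff_isUnit]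
    intro x y hxy
    have h1 : (φ T).mulVec (x - y) = 0 := by
      rw [Matrix.mulVec_sub]
      exact sub_eq_zero.2 hxy
    exact sub_eq_zero.1 (hinj _ h1)
  obtain ⟨M, hM'⟩ := hunit
  have hmem : M ∈ isometryGroup F ⇑Q := by
    rw [Cfsg.Agent.LieClassical.OrthFinite.mem_isometryGroup_iff]
    intro x
    rw [hM']
    exact hM x
  let g : isometryGroup F ⇑Q := ⟨M, hmem⟩
  refine ⟨⟨g * g, Cfsg.Agent.H377.mul_self_mem_Omega Q hQ h5 g⟩, ?_⟩
  refine LinearMap.ext fun x => ?_
  rw [rho_apply]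
  show ((M : Matrix ι ι F) * (M : Matrix ι ι F)).mulVec x = e.symm ((T ^ 2) (e x))
  rw [← Matrix.mulVec_mulVec, hM', hφ, hφ, e.apply_symm_apply, pow_two]
  rfl

theorem orderOf_omega (Q : (ι → F) → F) {V : Type*} [AddCommGroup V] [Module F V] (e : (ι → F) ≃ₗ[F] V)
    {T : Module.End F V} {z : Omega F Q} (hz : rho Q z = e.symm.conj T) : orderOf z = orderOf T := by
  rw [← orderOf_injective (rho Q) (rho_injective Q) z, hz, Cfsg.Agent.H182.Orth.orderOf_conj]

omit [Finite F] in
/-- elements of `Ω` have determinant one -/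
theorem det_rho (Q : (ι → F) → F) (z : Omega F Q) : LinearMap.det (rho Q z) = 1 := by
  have h1 : LinearMap.det (rho Q z) =
      (((z : isometryGroup F Q) : Matrix.GeneralLinearGroup ι F) : Matrix ι ι F).det := by
    rw [← LinearMap.det_toLin']
    rfl
  rw [h1]
  let d : isometryGroup F Q →* Fˣ := Matrix.GeneralLinearGroup.det.comp (isometryGroup F Q).subtype
  have h2 : (z : isometryGroup F Q) ∈ d.ker := Abelianization.commutator_subset_ker d z.2
  have h3 : d (z : isometryGroup F Q) = 1 := h2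
  exact congrArg Units.val h3

/-- an isometry `g` of order `M` of a `2n`-dimensional summand gives an element of `Ω` -/
theorem exists_elt (Q : QuadraticForm F (ι → F)) (hQ : Nondeg Q) (h5 : 5 ≤ Fintype.card ι)
    {V W : Type*} [AddCommGroup V] [Module F V] [AddCommGroup W] [Module F W] [Finite V] [Finite W]
    (Q₁ : QuadraticForm F V) (Q₂ : QuadraticForm F W)
    (e : (ι → F) ≃ₗ[F] V × W) (c : F) (hc : c ≠ 0) (he : ∀ u, Cfsg.Agent.H377.sumQ Q₁ Q₂ (e u) = c * Q u)
    (g : Module.End F V) (hg : ∀ v, Q₁ (g v) = Q₁ v) {M : ℕ} (hM : orderOf g = M) :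
    ∃ z : Omega F ⇑Q, orderOf z = M / M.gcd 2 ∧ finrank F W ≤ finrank F (fx (rho (⇑Q)) z) := by
  obtain ⟨z, hz⟩ := exists_omega Q hQ h5 _ e c hc he (g.prodMap (1 : Module.End F W)) (fun v => by
    rw [Cfsg.Agent.H377.sumQ_apply, Cfsg.Agent.H377.sumQ_apply, LinearMap.prodMap_apply, hg]
    rfl)
  refine ⟨z, ?_, ?_⟩
  · have ho : orderOf (g.prodMap (1 : Module.End F W)) = M := by
      rw [Cfsg.Agent.H182.Orth.orderOf_prodMap, orderOf_one, Nat.lcm_one_right, hM]
    rw [orderOf_omega _ e hz, orderOf_pow' _ two_ne_zero, ho]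
  · let f : W →ₗ[F] (ι → F) := (e.symm : (V × W) →ₗ[F] (ι → F)).comp (LinearMap.inr F V W)
    have hf : Function.Injective f := by
      intro a b hab
      have h1 : e.symm ((0, a) : V × W) = e.symm (0, b) := hab
      exact congrArg Prod.snd (e.symm.injective h1)
    rw [← LinearMap.finrank_range_of_inj hf]
    apply Submodule.finrank_mono
    rintro _ ⟨w, rfl⟩
    rw [mem_fx, hz]
    show e.symm (((g.prodMap (1 : Module.End F W)) ^ 2) (e (e.symm ((0, w) : V × W)))) = e.symm (0, w)
    rw [e.apply_symm_apply, Cfsg.Agent.H182.Orth.prodMap_pow, one_pow]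
    congr 1
    exact Prod.ext (show (g ^ 2) 0 = 0 from map_zero (g ^ 2)) rfl

/-- `r` odd prime, the centre consists of `± 1` -/
theorem not_dvd_ker {Q : (ι → F) → F} (hc : ∀ z ∈ Subgroup.center (Omega F Q), rho Q z = 1 ∨ rho Q z = -1)
    {r : ℕ} (hr : r.Prime) (hr2 : r ≠ 2) :
    ¬ r ∣ Nat.card (QuotientGroup.mk' (Subgroup.center (Omega F Q))).ker := by
  intro h
  have : Fact r.Prime := ⟨hr⟩
  obtain ⟨z, hz⟩ := exists_prime_orderOf_dvd_card' r h
  have h1 : (z : Omega F Q) ∈ Subgroup.center (Omega F Q) := (QuotientGroup.eq_one_iff (z : Omega F Q)).1 z.2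
  have h2 : (z : Omega F Q) ^ 2 = 1 := by
    apply rho_injective Q
    rw [map_pow, map_one]
    rcases hc _ h1 with h | h
    · rw [h, one_pow]
    · rw [h]
      refine LinearMap.ext fun x => ?_
      show -(-x) = x
      rw [neg_neg]
  have h3 : orderOf (z : Omega F Q) ∣ 2 := orderOf_dvd_of_pow_eq_one h2
  rw [Subgroup.orderOf_coe, hz] at h3
  exact hr2 ((Nat.prime_dvd_prime_iff_eq hr Nat.prime_two).1 h3)

theorem mk_comm (Q : (ι → F) → F) (z : Omega F Q) (hz : QuotientGroup.mk' (Subgroup.center (Omega F Q)) z = 1)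
    (x : Omega F Q) : z * x = x * z := by
  have h1 : z ∈ Subgroup.center (Omega F Q) := (QuotientGroup.eq_one_iff z).1 hz
  exact (Subgroup.mem_center_iff.1 h1 x).symm

end

end Cfsg.Agent.H743.RegOm
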